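import Cfsg.Agent.Lib.Forms.Symplectic
import Cfsg.Prelude.Def_GeometricClasses

/-!
Maximality of subspace stabilisers in the symplectic group, by transvection subgroups.
-/

set_option autoImplicit false

namespace Cfsg.Agent.Lib.SympMax

open Matrix Cfsg.Agent.Lib.Forms

variable {F : Type*} [Field F] {m : ℕ}

local notation "Vs" => (Fin m ⊕ Fin m → F)
local notation "f" => Cfsg.sympForm m F

theorem form_add_left (u v w : Vs) : f (u + v) w = f u w + f v w := by
  simp only [← sympBilin_apply, map_add, LinearMap.add_apply]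

theorem form_add_right (u v w : Vs) : f u (v + w) = f u v + f u w := by
  simp only [← sympBilin_apply, map_add]

theorem form_smul_left (c : F) (u v : Vs) : f (c • u) v = c * f u v := by
  simp only [← sympBilin_apply, map_smul, LinearMap.smul_apply, smul_eq_mul]

theorem form_smul_right (c : F) (u v : Vs) : f u (c • v) = c * f u v := by
  simp only [← sympBilin_apply, map_smul, smul_eq_mul]

theorem form_sub_right (u v w : Vs) : f u (v - w) = f u v - f u w := by
  simp only [← sympBilin_apply, map_sub]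

theorem trans_zero (v : Vs) : Cfsg.sympTransvection m v (0 : F) = 1 := by
  simp [Cfsg.sympTransvection]

/-- The transvection `x ↦ x + c f(x, v) v`. -/
noncomputable def T (v : Vs) (c : F) : GL (Fin m ⊕ Fin m) F :=
  ⟨Cfsg.sympTransvection m v c, Cfsg.sympTransvection m v (-c),
    by rw [sympTransvection_mul, add_neg_cancel, trans_zero],
    by rw [sympTransvection_mul, neg_add_cancel, trans_zero]⟩

@[simp] theorem T_mulVec (v x : Vs) (c : F) :
    (T v c : Matrix (Fin m ⊕ Fin m) (Fin m ⊕ Fin m) F) *ᵥ x = x + (c * f x v) • v :=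
  sympTransvection_mulVec v x c

theorem T_mem (v : Vs) (c : F) : T v c ∈ Cfsg.spGL m F :=
  mem_symplecticGroup_iff_preserves.mp (sympTransvection_mem v c)

theorem apply_sp {g : GL (Fin m ⊕ Fin m) F} (hg : g ∈ Cfsg.spGL m F) (u v : Vs) :
    f ((g : Matrix (Fin m ⊕ Fin m) (Fin m ⊕ Fin m) F) *ᵥ u)
      ((g : Matrix (Fin m ⊕ Fin m) (Fin m ⊕ Fin m) F) *ᵥ v) = f u v :=
  hg u v

theorem conj_T {g : GL (Fin m ⊕ Fin m) F} (hg : g ∈ Cfsg.spGL m F) (v : Vs) (c : F) :
    g * T v c * g⁻¹ = T ((g : Matrix (Fin m ⊕ Fin m) (Fin m ⊕ Fin m) F) *ᵥ v) c := by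
  rw [mul_inv_eq_iff_eq_mul]
  refine Units.ext (Matrix.ext_iff_mulVec.mpr fun x => ?_)
  rw [Units.val_mul, Units.val_mul, ← mulVec_mulVec, ← mulVec_mulVec, T_mulVec, T_mulVec,
    mulVec_add, mulVec_smul, apply_sp hg]

theorem T_smul (v : Vs) (a c : F) : T (a • v) c = T v (a * a * c) := by
  refine Units.ext (Matrix.ext_iff_mulVec.mpr fun x => ?_)
  rw [T_mulVec, T_mulVec, form_smul_right, smul_smul]
  congr 2
  ring

/-- The vectors whose transvection subgroup lies in `H`. -/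
def root (H : Subgroup (GL (Fin m ⊕ Fin m) F)) : Set Vs := {v | ∀ c : F, T v c ∈ H}

variable {H : Subgroup (GL (Fin m ⊕ Fin m) F)}

theorem root_map (hH : H ≤ Cfsg.spGL m F) {g : GL (Fin m ⊕ Fin m) F} (hg : g ∈ H) {v : Vs}
    (hv : v ∈ root H) : (g : Matrix (Fin m ⊕ Fin m) (Fin m ⊕ Fin m) F) *ᵥ v ∈ root H := fun c => by
  rw [← conj_T (hH hg)]
  exact H.mul_mem (H.mul_mem hg (hv c)) (H.inv_mem hg)

theorem root_smul {v : Vs} (hv : v ∈ root H) (a : F) : a • v ∈ root H := fun c => by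
  rw [T_smul]; exact hv _

theorem root_T (hH : H ≤ Cfsg.spGL m F) {u x : Vs} (hu : u ∈ root H) {c : F} (hx : T x c ∈ H) :
    u + (c * f u x) • x ∈ root H := by
  rw [← T_mulVec]; exact root_map hH hx hu

/-- Adding a root vector. -/
theorem root_add (hH : H ≤ Cfsg.spGL m F) {u x : Vs} (hu : u ∈ root H) (hx : x ∈ root H)
    (hne : f u x ≠ 0) : u + x ∈ root H := by
  have h := root_T hH hu (hx (f u x)⁻¹)
  rwa [inv_mul_cancel₀ hne, one_smul] at h

/-- If every transvection is there, so is everything. -/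
theorem eq_spGL (hH : H ≤ Cfsg.spGL m F) (h : ∀ v, v ∈ root H) : H = Cfsg.spGL m F := by
  refine le_antisymm hH fun g hg => ?_
  let φ : Matrix.symplecticGroup (Fin m) F →* GL (Fin m ⊕ Fin m) F := MonoidHom.toHomUnits
    ((Matrix.symplecticGroup (Fin m) F).subtype)
  have hle : Subgroup.closure (sympTransSet m F) ≤ H.comap φ := by
    refine (Subgroup.closure_le _).mpr ?_
    rintro A ⟨w, c, hA⟩
    show φ A ∈ H
    rw [show φ A = T w c from Units.ext hA]
    exact h w c
  rw [closure_sympTransSet_eq_top] at hle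
  let A : Matrix.symplecticGroup (Fin m) F :=
    ⟨(g : Matrix (Fin m ⊕ Fin m) (Fin m ⊕ Fin m) F), mem_symplecticGroup_iff_preserves.mpr hg⟩
  have h1 : φ A ∈ H := hle (Subgroup.mem_top A)
  rwa [show φ A = g from Units.ext rfl] at h1

theorem mem_stab_iff {W : Submodule F Vs} {g : GL (Fin m ⊕ Fin m) F} :
    g ∈ Cfsg.Geo.subspaceStabilizer W ↔
      ∀ v, v ∈ W ↔ (g : Matrix (Fin m ⊕ Fin m) (Fin m ⊕ Fin m) F) *ᵥ v ∈ W := Iff.rfl

theorem mem_stab_of_maps [Finite F] {W : Submodule F Vs} {g : GL (Fin m ⊕ Fin m) F}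
    (h : ∀ v ∈ W, (g : Matrix (Fin m ⊕ Fin m) (Fin m ⊕ Fin m) F) *ᵥ v ∈ W) :
    g ∈ Cfsg.Geo.subspaceStabilizer W := by
  intro v
  refine ⟨h v, fun hv => ?_⟩
  let L : W → W := fun w => ⟨_, h w w.2⟩
  have hinj : Function.Injective L := fun a b hab => by
    have h1 := congrArg Subtype.val hab
    apply Subtype.ext
    have h2 := congrArg (((g⁻¹ : GL (Fin m ⊕ Fin m) F) : Matrix (Fin m ⊕ Fin m) (Fin m ⊕ Fin m) F) *ᵥ ·) h1
    simpa [L, mulVec_mulVec] using h2
  obtain ⟨w, hw⟩ := (Finite.injective_iff_surjective.mp hinj) ⟨_, hv⟩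
  have h1 := congrArg (((g⁻¹ : GL (Fin m ⊕ Fin m) F) : Matrix (Fin m ⊕ Fin m) (Fin m ⊕ Fin m) F) *ᵥ ·)
    (congrArg Subtype.val hw)
  simp [L, mulVec_mulVec] at h1
  exact h1 ▸ w.2

theorem T_stab [Finite F] {W : Submodule F Vs} {x : Vs} (c : F)
    (h : x ∈ W ∨ ∀ w ∈ W, f w x = 0) : T x c ∈ Cfsg.Geo.subspaceStabilizer W := by
  refine mem_stab_of_maps fun v hv => ?_
  rw [T_mulVec]
  rcases h with h | h
  · exact W.add_mem hv (W.smul_mem _ h)
  · rw [h v hv, mul_zero, zero_smul, add_zero]; exact hv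

/-- The map `x ↦ x + f(x, a) b + f(x, b) a`. -/
noncomputable def E (a b : Vs) : GL (Fin m ⊕ Fin m) F := T (a + b) 1 * T a (-1) * T b (-1)

theorem E_mem (a b : Vs) : E a b ∈ Cfsg.spGL m F :=
  mul_mem (mul_mem (T_mem _ _) (T_mem _ _)) (T_mem _ _)

theorem E_mulVec {a b : Vs} (hab : f a b = 0) (x : Vs) :
    (E a b : Matrix (Fin m ⊕ Fin m) (Fin m ⊕ Fin m) F) *ᵥ x = x + f x a • b + f x b • a := by
  have hba : f b a = 0 := by rw [sympForm_comm, hab, neg_zero]
  simp only [E, Units.val_mul, ← mulVec_mulVec, T_mulVec, form_add_left, form_add_right,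
    form_smul_left, sympForm_self, hab, hba]
  match_scalars <;> ring

theorem exists_form_ne {u : Vs} (hu : u ≠ 0) : ∃ v, f u v ≠ 0 := by
  by_contra h
  push Not at h
  exact hu ((sympBilin_goodForm (F := F) (m := m)).nondeg u fun y => by
    rw [sympBilin_apply]; exact h y)

/-- The stabiliser of a totally singular subspace is maximal. -/
theorem isMaximalIn_singular [Finite F] (W : Submodule F Vs) (hW0 : W ≠ ⊥)
    (hW : Cfsg.Geo.IsTotallySingularFor (Cfsg.sympForm m F) W) :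
    Cfsg.Geo.IsMaximalIn (Cfsg.spGL m F) (Cfsg.Geo.subspaceStabilizer W ⊓ Cfsg.spGL m F) := by
  obtain ⟨w₀, hw₀, hw₀0⟩ := Submodule.exists_mem_ne_zero_of_ne_bot hW0
  refine ⟨lt_of_le_of_ne inf_le_right fun e => ?_, fun H hPH hHK => ?_⟩
  · obtain ⟨x, hx⟩ := exists_form_ne hw₀0
    have h1 : T x 1 ∈ Cfsg.Geo.subspaceStabilizer W := (e.ge (T_mem x 1)).1
    have h2 := (h1 w₀).mp hw₀
    have h3 : (1 * f w₀ x) • x ∈ W := by
      have h2' : w₀ + (1 * f w₀ x) • x ∈ W := by rw [← T_mulVec]; exact h2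
      simpa using W.sub_mem h2' hw₀
    rw [one_mul] at h3
    exact hx (hW w₀ hw₀ x (((Submodule.smul_mem_iff W hx).mp h3)))
  by_cases hle : H ≤ Cfsg.Geo.subspaceStabilizer W
  · exact Or.inl (le_antisymm (le_inf hle hHK) hPH)
  right
  have hperp : ∀ v : Vs, (∀ w ∈ W, f w v = 0) → v ∈ root H := fun v hv c =>
    hPH ⟨T_stab c (Or.inr hv), T_mem v c⟩
  have hWroot : ∀ w ∈ W, w ∈ root H := fun w hw => hperp w fun w' hw' => hW w' hw' w hw
  -- a root vector outside the perpendicular space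
  obtain ⟨u, hu, a₀, ha₀, hua₀⟩ : ∃ u ∈ root H, ∃ a ∈ W, f u a ≠ 0 := by
    by_contra hno
    push Not at hno
    obtain ⟨g, hgH, hg⟩ := SetLike.not_le_iff_exists.mp hle
    refine hg (mem_stab_of_maps fun w hw => ?_)
    -- `g w` is perpendicular to everything perpendicular to `W`
    have h1 : ∀ y : Vs, (∀ v ∈ W, f v y = 0) → f y ((g : Matrix (Fin m ⊕ Fin m) (Fin m ⊕ Fin m) F) *ᵥ w) = 0 := by
      intro y hy
      have h2 := hno _ (root_map (hHK) (H.inv_mem hgH) (hperp y hy)) w hw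
      rw [← apply_sp (hHK hgH), mulVec_mulVec, ← Units.val_mul, mul_inv_cancel, Units.val_one,
        one_mulVec] at h2
      exact h2
    have h := sympBilin_goodForm (F := F) (m := m)
    rw [← h.perp_perp W]
    intro y hy
    rw [sympBilin_apply]
    exact h1 y fun v hv => by simpa using hy v hv
  refine eq_spGL hHK fun v => ?_
  -- translating by the perpendicular space
  have htrans : ∀ u ∈ root H, ∀ a ∈ W, f u a ≠ 0 → ∀ y : Vs, (∀ w ∈ W, f w y = 0) → u + y ∈ root H := by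
    intro u hu a ha hua y hy
    by_cases hy0 : f u y = 0
    · have h1 : u + (y + a) ∈ root H := root_add hHK hu (hperp _ fun w hw => by
        rw [form_add_right, hy w hw, hW w hw a ha, add_zero]) (by rw [form_add_right, hy0, zero_add]; exact hua)
      have h2 : f (u + (y + a)) (-a) ≠ 0 := by
        have hya : f y a = 0 := by rw [sympForm_comm, hy a ha, neg_zero]
        rw [← neg_one_smul F a, form_smul_right, form_add_left, form_add_left, hya, hW a ha a ha]
        simpa using hua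
      have h3 := root_add hHK h1 (hWroot _ (W.neg_mem ha)) h2
      rwa [add_assoc, add_neg_cancel_right] at h3
    · exact root_add hHK hu (hperp y hy) hy0
  by_cases hv : ∀ w ∈ W, f w v = 0
  · exact hperp v hv
  by_cases hpar : ∃ c : F, ∀ w ∈ W, f w v = c * f w u
  · obtain ⟨c, hc⟩ := hpar
    have hc0 : c ≠ 0 := fun e => hv fun w hw => by rw [hc w hw, e, zero_mul]
    have h1 := htrans (c • u) (root_smul hu c) a₀ ha₀
      (by rw [form_smul_left]; exact mul_ne_zero hc0 hua₀) (v - c • u)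
      fun w hw => by rw [form_sub_right, form_smul_right, hc w hw, sub_self]
    rwa [add_sub_cancel] at h1
  -- find `a ∈ W` with `f u a = 1 = f v a`
  obtain ⟨a, ha, hau, hav⟩ : ∃ a ∈ W, f u a = 1 ∧ f v a = 1 := by
    obtain ⟨a₁, ha₁W, ha₁u⟩ : ∃ a₁ ∈ W, f u a₁ = 1 :=
      ⟨(f u a₀)⁻¹ • a₀, W.smul_mem _ ha₀, by rw [form_smul_right, inv_mul_cancel₀ hua₀]⟩
    push Not at hpar
    obtain ⟨k, hk, hkne⟩ := hpar (f v a₁)
    obtain ⟨k', hk'W, hk'⟩ : ∃ k' ∈ W, k' = k - f u k • a₁ :=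
      ⟨_, W.sub_mem hk (W.smul_mem _ ha₁W), rfl⟩
    have hk'u : f u k' = 0 := by rw [hk', form_sub_right, form_smul_right, ha₁u, mul_one, sub_self]
    have hk'v : f v k' ≠ 0 := by
      rw [hk', form_sub_right, form_smul_right]
      intro e
      refine hkne ?_
      rw [sympForm_comm k v, sympForm_comm k u]
      linear_combination -e
    refine ⟨a₁ + ((1 - f v a₁) / f v k') • k', W.add_mem ha₁W (W.smul_mem _ hk'W), ?_, ?_⟩
    · rw [form_add_right, form_smul_right, hk'u, ha₁u, mul_zero, add_zero]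
    · rw [form_add_right, form_smul_right, div_mul_cancel₀ _ hk'v, add_sub_cancel]
  have hab : f a (v - u) = 0 := by
    rw [form_sub_right, sympForm_comm a v, sympForm_comm a u, hau, hav, sub_self]
  have hE : E a (v - u) ∈ H := hPH ⟨mem_stab_of_maps fun w hw => by
    rw [E_mulVec hab, hW w hw a ha, zero_smul, add_zero]
    exact W.add_mem hw (W.smul_mem _ ha), E_mem _ _⟩
  have h1 := root_map hHK hE hu
  rw [E_mulVec hab, hau, one_smul, add_sub_cancel] at h1
  have h2 := htrans _ h1 a ha (by rw [form_add_left, form_smul_left, hW a ha a ha, mul_zero, add_zero, hav]; exact one_ne_zero)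
    (-(f u (v - u) • a)) fun w hw => by
      rw [← neg_smul, form_smul_right, hW w hw a ha, mul_zero]
  rwa [add_neg_cancel_right] at h2

/-- Inside a nondegenerate subspace every nonzero vector can be reached. -/
theorem root_component [Finite F] {H : Subgroup (GL (Fin m ⊕ Fin m) F)} (hH : H ≤ Cfsg.spGL m F)
    {X : Submodule F Vs} (hX : ∀ x ∈ X, x ≠ 0 → ∃ y ∈ X, f x y ≠ 0)
    (hroot : ∀ x ∈ X, x ∈ root H) {a b : Vs} (ha : a ∈ X) (ha0 : a ≠ 0)
    (hb : ∀ x ∈ X, f b x = 0) (hab : a + b ∈ root H) {a' : Vs} (ha' : a' ∈ X) (ha'0 : a' ≠ 0) :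
    a' + b ∈ root H := by
  have step : ∀ s t : Vs, s ∈ X → t ∈ X → s + b ∈ root H → f s t ≠ 0 → t + b ∈ root H := by
    intro s t hs ht hsb hne
    have hd : t - s ∈ X := X.sub_mem ht hs
    have h1 := root_add hH hsb (hroot _ hd)
      (by rw [form_add_left, hb _ hd, add_zero, form_sub_right, sympForm_self, sub_zero]; exact hne)
    rwa [show s + b + (t - s) = t + b by abel] at h1
  by_cases hne : f a a' = 0
  · obtain ⟨y, hy, hay⟩ := hX a ha ha0
    obtain ⟨z, hz, ha'z⟩ := hX a' ha' ha'0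
    obtain ⟨t, ht, h1, h2⟩ : ∃ t ∈ X, f a t ≠ 0 ∧ f a' t ≠ 0 := by
      by_cases h1 : f a' y = 0
      · by_cases h2 : f a z = 0
        · exact ⟨y + z, X.add_mem hy hz, by rwa [form_add_right, h2, add_zero],
            by rwa [form_add_right, h1, zero_add]⟩
        · exact ⟨z, hz, h2, ha'z⟩
      · exact ⟨y, hy, hay, h1⟩
    exact step t a' ht ha' (step a t ha ht hab h1) (by rwa [sympForm_comm, neg_ne_zero])
  · exact step a a' ha ha' hab hne

/-- The stabiliser of a small nondegenerate subspace is maximal. -/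
theorem isMaximalIn_nondegenerate [Finite F] (W : Submodule F Vs) (hW0 : W ≠ ⊥)
    (hW : Cfsg.Geo.IsNondegenerateOn (Cfsg.sympForm m F) W) (hdim : Module.finrank F W < m) :
    Cfsg.Geo.IsMaximalIn (Cfsg.spGL m F) (Cfsg.Geo.subspaceStabilizer W ⊓ Cfsg.spGL m F) := by
  have hg := sympBilin_goodForm (F := F) (m := m)
  set W' := perp (sympBilin m F) W with hW'
  have hW'mem : ∀ {v : Vs}, v ∈ W' ↔ ∀ w ∈ W, f w v = 0 := by
    intro v; constructor <;> intro h w hw <;> simpa using h w hw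
  have hrank : Module.finrank F W + Module.finrank F W' = m + m := by
    rw [hg.finrank_add_finrank_perp, Module.finrank_fintype_fun_eq_card, Fintype.card_sum,
      Fintype.card_fin]
  have hW'0 : W' ≠ ⊥ := fun e => by rw [e, finrank_bot] at hrank; omega
  have hdisj : W ⊓ W' = ⊥ := by
    rw [eq_bot_iff]
    rintro v ⟨hv, hv'⟩
    rw [Submodule.mem_bot]
    by_contra h0
    obtain ⟨x, hx, hxv⟩ := (hW v hv h0).1
    exact hxv (hW'mem.mp hv' x hx)
  have hsup : W ⊔ W' = ⊤ := by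
    refine Submodule.eq_top_of_finrank_eq ?_
    have h1 := Submodule.finrank_sup_add_finrank_inf_eq W W'
    rw [hdisj, finrank_bot, add_zero, hrank] at h1
    rw [h1, Module.finrank_fintype_fun_eq_card, Fintype.card_sum, Fintype.card_fin]
  have hnd : ∀ x ∈ W, x ≠ 0 → ∃ y ∈ W, f x y ≠ 0 := fun x hx h0 => (hW x hx h0).2
  have hnd' : ∀ x ∈ W', x ≠ 0 → ∃ y ∈ W', f x y ≠ 0 := by
    intro x hx h0
    obtain ⟨y, hy⟩ := exists_form_ne h0
    obtain ⟨w, hw, w', hw', rfl⟩ := Submodule.mem_sup.mp (hsup.ge (Submodule.mem_top (x := y)))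
    refine ⟨w', hw', fun e => hy ?_⟩
    rw [form_add_right, e, add_zero, sympForm_comm, hW'mem.mp hx w hw, neg_zero]
  obtain ⟨w₀, hw₀, hw₀0⟩ := Submodule.exists_mem_ne_zero_of_ne_bot hW0
  obtain ⟨b₀, hb₀, hb₀0⟩ := Submodule.exists_mem_ne_zero_of_ne_bot hW'0
  refine ⟨lt_of_le_of_ne inf_le_right fun e => ?_, fun H hPH hHK => ?_⟩
  · obtain ⟨z, hz, hzw⟩ := (hW w₀ hw₀ hw₀0).1
    have h1 : T (w₀ + b₀) 1 ∈ Cfsg.Geo.subspaceStabilizer W := (e.ge (T_mem _ 1)).1
    have h2 : z + (1 * f z (w₀ + b₀)) • (w₀ + b₀) ∈ W := by rw [← T_mulVec]; exact (h1 z).mp hz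
    rw [one_mul, form_add_right, hW'mem.mp hb₀ z hz, add_zero, smul_add] at h2
    have h3 : f z w₀ • b₀ ∈ W := by
      have := W.sub_mem (W.sub_mem h2 hz) (W.smul_mem (f z w₀) hw₀)
      simpa [add_sub_cancel_left] using this
    have h4 : b₀ ∈ W ⊓ W' := ⟨(Submodule.smul_mem_iff W hzw).mp h3, hb₀⟩
    rw [hdisj, Submodule.mem_bot] at h4
    exact hb₀0 h4
  by_cases hle : H ≤ Cfsg.Geo.subspaceStabilizer W
  · exact Or.inl (le_antisymm (le_inf hle hHK) hPH)
  right
  have hWroot : ∀ w ∈ W, w ∈ root H := fun w hw c => hPH ⟨T_stab c (Or.inl hw), T_mem w c⟩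
  have hW'root : ∀ w ∈ W', w ∈ root H := fun w hw c =>
    hPH ⟨T_stab c (Or.inr (hW'mem.mp hw)), T_mem w c⟩
  obtain ⟨a, ha, b, hb, ha0, hb0, hab⟩ :
      ∃ a ∈ W, ∃ b ∈ W', a ≠ 0 ∧ b ≠ 0 ∧ a + b ∈ root H := by
    by_contra hno
    push Not at hno
    obtain ⟨g, hgH, hgW⟩ := SetLike.not_le_iff_exists.mp hle
    let L : Vs →ₗ[F] Vs := Matrix.mulVecLin (g : Matrix (Fin m ⊕ Fin m) (Fin m ⊕ Fin m) F)
    have hunion : ∀ s ∈ root H, s ∈ W ∨ s ∈ W' := by
      intro s hs
      obtain ⟨p, hp, p', hp', rfl⟩ := Submodule.mem_sup.mp (hsup.ge (Submodule.mem_top (x := s)))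
      rcases eq_or_ne p 0 with rfl | hp0
      · right; rwa [zero_add]
      rcases eq_or_ne p' 0 with rfl | hp'0
      · left; rwa [add_zero]
      exact absurd hs (hno p hp p' hp' hp0 hp'0)
    have hLinj : Function.Injective L := fun x y hxy => by
      have h2 := congrArg (((g⁻¹ : GL (Fin m ⊕ Fin m) F) : Matrix (Fin m ⊕ Fin m) (Fin m ⊕ Fin m) F) *ᵥ ·)
        (show (g : Matrix (Fin m ⊕ Fin m) (Fin m ⊕ Fin m) F) *ᵥ x =
          (g : Matrix (Fin m ⊕ Fin m) (Fin m ⊕ Fin m) F) *ᵥ y from hxy)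
      simpa [mulVec_mulVec] using h2
    have himg : ∀ X : Submodule F Vs, (∀ x ∈ X, x ∈ root H) → X.map L ≤ W ∨ X.map L ≤ W' := by
      intro X hX
      by_contra hno2
      push Not at hno2
      obtain ⟨x, hx, hxW⟩ := SetLike.not_le_iff_exists.mp hno2.1
      obtain ⟨y, hy, hyW⟩ := SetLike.not_le_iff_exists.mp hno2.2
      have hmem : ∀ z ∈ X.map L, z ∈ W ∨ z ∈ W' := by
        rintro _ ⟨z, hz, rfl⟩
        exact hunion _ (root_map hHK hgH (hX z hz))
      have hx' : x ∈ W' := (hmem x hx).resolve_left hxW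
      have hy' : y ∈ W := (hmem y hy).resolve_right hyW
      rcases hmem (x + y) (Submodule.add_mem _ hx hy) with h | h
      · exact hxW ((Submodule.add_mem_iff_left W hy').mp h)
      · exact hyW ((Submodule.add_mem_iff_right W' hx').mp h)
    have hrk : ∀ X : Submodule F Vs, Module.finrank F (X.map L) = Module.finrank F X := fun X =>
      (Submodule.equivMapOfInjective L hLinj X).finrank_eq.symm
    refine hgW (mem_stab_of_maps fun w hw => ?_)
    rcases himg W hWroot with h | h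
    · exact h ⟨w, hw, rfl⟩
    · exfalso
      rcases himg W' hW'root with h' | h'
      · have := Submodule.finrank_mono h'; rw [hrk] at this; omega
      · have e : W'.map L = W' := Submodule.eq_of_le_of_finrank_eq h' (hrk W')
        obtain ⟨x, hx, hxe⟩ := e.ge (h ⟨w₀, hw₀, rfl⟩)
        have h4 : w₀ ∈ W ⊓ W' := ⟨hw₀, hLinj hxe ▸ hx⟩
        rw [hdisj, Submodule.mem_bot] at h4
        exact hw₀0 h4
  refine eq_spGL hHK fun v => ?_
  obtain ⟨p, hp, p', hp', rfl⟩ := Submodule.mem_sup.mp (hsup.ge (Submodule.mem_top (x := v)))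
  rcases eq_or_ne p 0 with rfl | hp0
  · rw [zero_add]; exact hW'root _ hp'
  rcases eq_or_ne p' 0 with rfl | hp'0
  · rw [add_zero]; exact hWroot _ hp
  have h1 : p + b ∈ root H := root_component hHK hnd hWroot ha ha0
    (fun x hx => by rw [sympForm_comm, hW'mem.mp hb x hx, neg_zero]) hab hp hp0
  rw [add_comm] at h1 ⊢
  exact root_component hHK hnd' hW'root hb hb0 (fun x hx => hW'mem.mp hx p hp) h1 hp' hp'0

end Cfsg.Agent.Lib.SympMax
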