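import Cfsg.Agent.Lib.SympMax.Basic
import Cfsg.Agent.Lib.LinClasses.SympBasis

/-!
Maximality of the stabiliser of an orthogonal decomposition in the symplectic group.
-/

set_option autoImplicit false

namespace Cfsg.Agent.Lib.SympMax

open Matrix Cfsg.Agent.Lib.Forms

variable {F : Type*} [Field F] {m : ℕ}

local notation "Vs" => (Fin m ⊕ Fin m → F)
local notation "f" => Cfsg.sympForm m F

theorem form_zero_left (v : Vs) : f 0 v = 0 := by
  simp only [← sympBilin_apply, map_zero, LinearMap.zero_apply]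

theorem form_sum_left {κ : Type*} (s : Finset κ) (x : κ → Vs) (w : Vs) :
    f (∑ i ∈ s, x i) w = ∑ i ∈ s, f (x i) w := by
  simp only [← sympBilin_apply, map_sum, LinearMap.sum_apply]

theorem form_sum_right {κ : Type*} (s : Finset κ) (x : κ → Vs) (w : Vs) :
    f w (∑ i ∈ s, x i) = ∑ i ∈ s, f w (x i) := by
  simp only [← sympBilin_apply, map_sum]

/-- Nondegenerate subspaces of the same dimension are isometric. -/
theorem exists_isometry (k : ℕ) (X Y : Submodule F Vs) (hX : Module.finrank F X = k) (hY : Module.finrank F Y = k)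
    (hXn : Cfsg.Geo.IsNondegenerateOn (Cfsg.sympForm m F) X)
    (hYn : Cfsg.Geo.IsNondegenerateOn (Cfsg.sympForm m F) Y) :
    ∃ e : X ≃ₗ[F] Y, ∀ u v, f (e u : Vs) (e v) = f (u : Vs) v := by
  have key : ∀ Z : Submodule F Vs, Module.finrank F Z = k →
      Cfsg.Geo.IsNondegenerateOn (Cfsg.sympForm m F) Z →
      ∃ b : ℕ, b + b = k ∧ ∃ Φ : (Fin 2 × Fin b → F) ≃ₗ[F] Z,
        ∀ u v, f (Φ u : Vs) (Φ v) = ∑ j, (u (0, j) * v (1, j) - u (1, j) * v (0, j)) := by
    intro Z hZ hZn
    let c : (Fin k → F) ≃ₗ[F] Z := (LinearEquiv.ofFinrankEq _ _ (by rw [Module.finrank_fin_fun, hZ]))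
    have hg : Cfsg.Geo.IsSymplecticForm (fun u v : Fin k → F => f (c u : Vs) (c v)) := by
      refine ⟨⟨fun x y v => ?_, fun a x v => ?_, fun v x y => ?_, fun a v x => ?_⟩, fun u v => ?_,
        fun u => sympForm_self _, fun u hu => ?_⟩
      · simp only [map_add, Submodule.coe_add, form_add_left]
      · simp only [map_smul, Submodule.coe_smul, form_smul_left]
      · simp only [map_add, Submodule.coe_add, form_add_right]
      · simp only [map_smul, Submodule.coe_smul, form_smul_right]
      · exact sympForm_comm _ _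
      · have h0 : (c u : Vs) ≠ 0 := fun e => hu (c.map_eq_zero_iff.mp (Subtype.ext e))
        obtain ⟨⟨x, hx, hx1⟩, ⟨y, hy, hy1⟩⟩ := hZn _ (c u).2 h0
        exact ⟨⟨c.symm ⟨x, hx⟩, by rw [c.apply_symm_apply]; exact hx1⟩,
          ⟨c.symm ⟨y, hy⟩, by rw [c.apply_symm_apply]; exact hy1⟩⟩
    obtain ⟨b, hb, Φ, hΦ⟩ := LinClasses.exists_symp_basis hg
    exact ⟨b, by rw [hb, Fintype.card_fin], Φ.trans c, fun u v => hΦ u v⟩
  obtain ⟨b, hb, Φ, hΦ⟩ := key X hX hXn
  obtain ⟨b', hb', Ψ, hΨ⟩ := key Y hY hYn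
  obtain rfl : b = b' := by omega
  refine ⟨Φ.symm.trans Ψ, fun u v => ?_⟩
  rw [LinearEquiv.trans_apply, LinearEquiv.trans_apply, hΨ, ← hΦ, Φ.apply_symm_apply, Φ.apply_symm_apply]

/-- The stabiliser of an orthogonal decomposition is maximal. -/
theorem isMaximalIn_decomp [Finite F] {t : ℕ} (k : ℕ) (D : Fin t → Submodule F Vs)
    (hD : Cfsg.Geo.IsNondegenerateMDecomposition (Cfsg.sympForm m F) k D)
    (hex : ¬ (k = 2 ∧ Nat.card F = 2)) :
    Cfsg.Geo.IsMaximalIn (Cfsg.spGL m F) (Cfsg.Geo.decompositionStabilizer D ⊓ Cfsg.spGL m F) := by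
  classical
  have horth : ∀ i j, i ≠ j → ∀ x ∈ D i, ∀ y ∈ D j, f x y = 0 := fun i j hij x hx y hy =>
    hD.orthogonal i j hij x hx y hy
  let ψ₀ : (∀ i, D i) →ₗ[F] Vs :=
    { toFun := fun p => ∑ i, (p i : Vs)
      map_add' := fun p q => by simp [Finset.sum_add_distrib]
      map_smul' := fun c p => by simp [Finset.smul_sum] }
  have hψf : ∀ p q : ∀ i, D i, f (ψ₀ p) (ψ₀ q) = ∑ i, f (p i : Vs) (q i) := by
    intro p q
    show f (∑ i, (p i : Vs)) (∑ i, (q i : Vs)) = _
    rw [form_sum_left]
    refine Finset.sum_congr rfl fun i _ => ?_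
    rw [form_sum_right, Finset.sum_eq_single i (fun j _ hj => horth i j hj.symm _ (p i).2 _ (q j).2)]
    simp
  have hψfs : ∀ (p : ∀ i, D i) i (x : D i), f (ψ₀ p) (x : Vs) = f (p i : Vs) x := by
    intro p i x
    show f (∑ j, (p j : Vs)) (x : Vs) = _
    rw [form_sum_left, Finset.sum_eq_single i (fun j _ hj => horth j i hj _ (p j).2 _ x.2)]
    simp
  have hψbij : Function.Bijective ψ₀ := by
    refine ⟨(injective_iff_map_eq_zero ψ₀).mpr fun p hp => funext fun i => ?_, ?_⟩
    · by_contra h0
      obtain ⟨x, hx, hne⟩ := (hD.nondegenerate i (p i) (p i).2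
        (fun e => h0 (Subtype.ext e))).2
      rw [← hψfs p i ⟨x, hx⟩, hp, form_zero_left] at hne
      exact hne rfl
    · rw [← LinearMap.range_eq_top, eq_top_iff, ← hD.decomp.iSup_eq_top]
      refine iSup_le fun i x hx => ⟨Pi.single i ⟨x, hx⟩, ?_⟩
      show ∑ j, ((Pi.single i (⟨x, hx⟩ : D i) : ∀ j, D j) j : Vs) = x
      rw [Finset.sum_eq_single i (fun j _ hj => by rw [Pi.single_eq_of_ne hj]; rfl) (by simp),
        Pi.single_eq_same]
  let ψ : (∀ i, D i) ≃ₗ[F] Vs := LinearEquiv.ofBijective ψ₀ hψbij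
  have hψ : ∀ p, ψ p = ∑ i, (p i : Vs) := fun p => rfl
  have hψsingle : ∀ i (x : D i), ψ (Pi.single i x) = x := fun i x => by
    rw [hψ, Finset.sum_eq_single i (fun j _ hj => by rw [Pi.single_eq_of_ne hj]; rfl) (by simp),
      Pi.single_eq_same]
  have hmem : ∀ (p : ∀ i, D i) i, ψ p ∈ D i → ∀ j, j ≠ i → p j = 0 := by
    intro p i hp j hj
    have h1 : ψ (Pi.single i ⟨_, hp⟩) = ψ p := hψsingle i _
    rw [← ψ.injective h1, Pi.single_eq_of_ne hj]
  have hmap : ∀ (g : GL (Fin m ⊕ Fin m) F) (i j : Fin t),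
      (∀ x ∈ D i, (g : Matrix _ _ F) *ᵥ x ∈ D j) →
      (D i).map (Matrix.toLin' (g : Matrix (Fin m ⊕ Fin m) (Fin m ⊕ Fin m) F)) = D j := by
    intro g i j h
    have hinj : Function.Injective (Matrix.toLin' (g : Matrix (Fin m ⊕ Fin m) (Fin m ⊕ Fin m) F)) := by
      intro x y hxy
      have h2 := congrArg (((g⁻¹ : GL (Fin m ⊕ Fin m) F) : Matrix (Fin m ⊕ Fin m) (Fin m ⊕ Fin m) F) *ᵥ ·) hxy
      simpa [Matrix.toLin'_apply, mulVec_mulVec] using h2
    refine Submodule.eq_of_le_of_finrank_eq ?_ ?_
    · rintro _ ⟨x, hx, rfl⟩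
      rw [Matrix.toLin'_apply]; exact h x hx
    · rw [← (Submodule.equivMapOfInjective _ hinj (D i)).finrank_eq, hD.decomp.finrank_eq,
        hD.decomp.finrank_eq]
  have hk2 : 2 ≤ k := by
    obtain ⟨i⟩ : Nonempty (Fin t) := ⟨⟨0, by have := hD.decomp.two_le; omega⟩⟩
    obtain ⟨a, ha, ha0⟩ := Submodule.exists_mem_ne_zero_of_ne_bot (show D i ≠ ⊥ from fun e => by
      have := hD.decomp.finrank_eq i; rw [e, finrank_bot] at this; have := hD.decomp.pos; omega)
    obtain ⟨y, hy, hay⟩ := (hD.nondegenerate i a ha ha0).2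
    by_contra hk
    have hle : Submodule.span F {a} ≤ D i := by simpa using ha
    have he : Submodule.span F {a} = D i := Submodule.eq_of_le_of_finrank_le hle (by
      rw [hD.decomp.finrank_eq, finrank_span_singleton ha0]; omega)
    obtain ⟨c, rfl⟩ := Submodule.mem_span_singleton.mp (he.ge hy)
    rw [form_smul_right, sympForm_self, mul_zero] at hay
    exact hay rfl
  have hne : ∀ i, ∃ a : D i, a ≠ 0 := fun i => by
    obtain ⟨a, ha, ha0⟩ := Submodule.exists_mem_ne_zero_of_ne_bot (show D i ≠ ⊥ from fun e => by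
      have := hD.decomp.finrank_eq i; rw [e, finrank_bot] at this; omega)
    exact ⟨⟨a, ha⟩, fun e => ha0 (congrArg Subtype.val e)⟩
  refine ⟨lt_of_le_of_ne inf_le_right fun e => ?_, fun H hMH hHK => ?_⟩
  · obtain ⟨i, j, hij⟩ : ∃ i j : Fin t, i ≠ j :=
      ⟨⟨0, by have := hD.decomp.two_le; omega⟩, ⟨1, by have := hD.decomp.two_le; omega⟩,
        fun h => by simp [Fin.ext_iff] at h⟩
    obtain ⟨a, ha⟩ := hne i
    obtain ⟨b, hb⟩ := hne j
    obtain ⟨z, hz, hzne⟩ := (hD.nondegenerate i a a.2 (fun e => ha (Subtype.ext e))).1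
    obtain ⟨σ, hσ⟩ := (e.ge (T_mem ((a : Vs) + (b : Vs)) 1)).1
    have h1 : z + f z a • ((a : Vs) + (b : Vs)) ∈ D (σ i) := by
      rw [← hσ i]
      refine ⟨z, hz, ?_⟩
      rw [Matrix.toLin'_apply, T_mulVec, one_mul, form_add_right, horth i j hij z hz b b.2, add_zero]
    have h2 : z + f z a • ((a : Vs) + (b : Vs)) =
        ψ (Pi.single i (⟨z, hz⟩ + f z a • a) + Pi.single j (f z a • b)) := by
      rw [map_add, hψsingle, hψsingle, Submodule.coe_add, Submodule.coe_smul, Submodule.coe_smul,
        smul_add, add_assoc]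
    rw [h2] at h1
    rcases eq_or_ne (σ i) i with hs | hs
    · have h3 := hmem _ _ h1 j (fun h => hij (hs ▸ h.symm))
      rw [Pi.add_apply, Pi.single_eq_of_ne hij.symm, Pi.single_eq_same, zero_add] at h3
      exact hb ((smul_eq_zero.mp h3).resolve_left hzne)
    · have h3 := hmem _ _ h1 i hs.symm
      rw [Pi.add_apply, Pi.single_eq_same, Pi.single_eq_of_ne hij, add_zero] at h3
      have h4 : z + f z a • (a : Vs) = 0 := congrArg Subtype.val h3
      have h5 : f (z + f z a • (a : Vs)) a = f z a := by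
        rw [form_add_left, form_smul_left, sympForm_self, mul_zero, add_zero]
      rw [h4, form_zero_left] at h5
      exact hzne h5.symm
  by_cases hle : H ≤ Cfsg.Geo.decompositionStabilizer D
  · exact Or.inl (le_antisymm (le_inf hle hHK) hMH)
  right
  obtain ⟨g, hgH, hg⟩ := SetLike.not_le_iff_exists.mp hle
  have hDroot : ∀ i, ∀ x ∈ D i, x ∈ root H := fun i x hx c => hMH ⟨⟨1, fun j => by
    refine hmap _ j _ fun v hv => ?_
    rw [T_mulVec, Equiv.Perm.one_apply]
    rcases eq_or_ne j i with rfl | hji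
    · exact (D j).add_mem hv ((D j).smul_mem _ hx)
    · rw [horth j i hji v hv x hx, mul_zero, zero_smul, add_zero]; exact hv⟩, T_mem x c⟩
  let supp : (∀ i, D i) → Finset (Fin t) := fun p => Finset.univ.filter fun i => p i ≠ 0
  have hsupp : ∀ p i, i ∈ supp p ↔ p i ≠ 0 := fun p i => by simp [supp]
  -- a root vector with two components
  obtain ⟨p₀, hp₀, hcard⟩ : ∃ p, ψ p ∈ root H ∧ 2 ≤ (supp p).card := by
    by_contra hno
    push Not at hno
    have hunion : ∀ s ∈ root H, ∃ i, s ∈ D i := by
      intro s hs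
      obtain ⟨p, rfl⟩ := ψ.surjective s
      have h1 := hno p hs
      rcases Nat.lt_or_ge (supp p).card 1 with h2 | h2
      · refine ⟨⟨0, by have := hD.decomp.two_le; omega⟩, ?_⟩
        have h3 : p = 0 := funext fun i => by
          by_contra h
          have : 0 < (supp p).card := Finset.card_pos.mpr ⟨i, (hsupp p i).mpr h⟩
          omega
        rw [h3, map_zero]; exact Submodule.zero_mem _
      · obtain ⟨i, hi⟩ := Finset.card_eq_one.mp (show (supp p).card = 1 by omega)
        refine ⟨i, ?_⟩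
        have h3 : p = Pi.single i (p i) := funext fun j => by
          rcases eq_or_ne j i with rfl | hji
          · rw [Pi.single_eq_same]
          · rw [Pi.single_eq_of_ne hji]
            by_contra h
            exact hji (Finset.mem_singleton.mp (hi ▸ (hsupp p j).mpr h))
        rw [h3, hψsingle]; exact (p i).2
    have himg : ∀ i, ∃ j, ∀ x ∈ D i, (g : Matrix (Fin m ⊕ Fin m) (Fin m ⊕ Fin m) F) *ᵥ x ∈ D j := by
      intro i
      obtain ⟨a, ha⟩ := hne i
      obtain ⟨j, hj⟩ := hunion _ (root_map hHK hgH (hDroot i a a.2))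
      refine ⟨j, fun x hx => ?_⟩
      obtain ⟨l, hl⟩ := hunion _ (root_map hHK hgH (hDroot i x hx))
      obtain ⟨o, ho⟩ := hunion _ (root_map hHK hgH (hDroot i _ ((D i).add_mem a.2 hx)))
      rcases eq_or_ne l j with rfl | hlj
      · exact hl
      by_contra hxo
      rw [mulVec_add] at ho
      have e : (g : Matrix (Fin m ⊕ Fin m) (Fin m ⊕ Fin m) F) *ᵥ (a : Vs) +
          (g : Matrix (Fin m ⊕ Fin m) (Fin m ⊕ Fin m) F) *ᵥ x =
          ψ (Pi.single j (⟨_, hj⟩ : D j) + Pi.single l (⟨_, hl⟩ : D l)) := by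
        rw [map_add, hψsingle, hψsingle]
      have ha' : (g : Matrix (Fin m ⊕ Fin m) (Fin m ⊕ Fin m) F) *ᵥ (a : Vs) ≠ 0 := by
        intro h0
        have h2 := congrArg (((g⁻¹ : GL (Fin m ⊕ Fin m) F) : Matrix (Fin m ⊕ Fin m) (Fin m ⊕ Fin m) F) *ᵥ ·) h0
        exact ha (Subtype.ext (by simpa [mulVec_mulVec] using h2))
      rw [e] at ho
      rcases eq_or_ne o j with rfl | hoj
      · have h3 := hmem _ _ ho l hlj
        rw [Pi.add_apply, Pi.single_eq_of_ne hlj, Pi.single_eq_same, zero_add] at h3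
        have h4 : (g : Matrix (Fin m ⊕ Fin m) (Fin m ⊕ Fin m) F) *ᵥ x = 0 := congrArg Subtype.val h3
        rw [h4] at hl
        -- a zero image lies in every summand
        have h5 : x = 0 := by
          have h2 := congrArg (((g⁻¹ : GL (Fin m ⊕ Fin m) F) : Matrix (Fin m ⊕ Fin m) (Fin m ⊕ Fin m) F) *ᵥ ·) h4
          simpa [mulVec_mulVec] using h2
        exact hxo (by rw [h5, mulVec_zero]; exact Submodule.zero_mem _)
      · have h3 := hmem _ _ ho j hoj.symm
        rw [Pi.add_apply, Pi.single_eq_same, Pi.single_eq_of_ne hlj.symm, add_zero] at h3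
        exact ha' (congrArg Subtype.val h3)
    choose σ hσ using himg
    have hσinj : Function.Injective σ := by
      intro i i' hii
      by_contra hne'
      have h1 := hmap g i _ (hσ i)
      have h2 := hmap g i' _ (hσ i')
      rw [hii, ← h2] at h1
      obtain ⟨a, ha⟩ := hne i
      obtain ⟨b, hb, hbe⟩ := h1.le ⟨(a : Vs), a.2, rfl⟩
      have hinj : b = (a : Vs) := by
        have h4 := congrArg (((g⁻¹ : GL (Fin m ⊕ Fin m) F) : Matrix (Fin m ⊕ Fin m) (Fin m ⊕ Fin m) F) *ᵥ ·) hbe
        simpa [Matrix.toLin'_apply, mulVec_mulVec] using h4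
      have h5 := hmem (Pi.single i a) i' (by rw [hψsingle, ← hinj]; exact hb) i hne'
      rw [Pi.single_eq_same] at h5
      exact ha h5
    exact hg ⟨Equiv.ofBijective σ ⟨hσinj, (Finite.injective_iff_surjective).mp hσinj⟩,
      fun i => hmap g i _ (hσ i)⟩
  let P : Finset (Fin t) → Prop := fun J => ∀ p, supp p = J → ψ p ∈ root H
  have hchange : ∀ p, ψ p ∈ root H → ∀ i, p i ≠ 0 → ∀ q : D i, q ≠ 0 →
      ψ (Function.update p i q) ∈ root H := by
    intro p hp i hpi q hq
    have hsplit : ∀ r : D i, ψ (Function.update p i r) = (r : Vs) + ψ (Function.update p i 0) := by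
      intro r
      rw [← hψsingle i r, ← map_add]
      refine congrArg ψ (funext fun j => ?_)
      rcases eq_or_ne j i with rfl | hji
      · simp
      · simp [Function.update_of_ne hji, Pi.single_eq_of_ne hji]
    rw [hsplit]
    refine root_component hHK (fun x hx h0 => (hD.nondegenerate i x hx h0).2) (hDroot i) (p i).2
      (fun e => hpi (Subtype.ext e)) (fun x hx => ?_) ?_ q.2 (fun e => hq (Subtype.ext e))
    · show f (ψ₀ _) ((⟨x, hx⟩ : D i) : Vs) = 0
      rw [hψfs, Function.update_self]; exact form_zero_left _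
    · rw [← hsplit, Function.update_eq_self]; exact hp
  have hP : ∀ p, ψ p ∈ root H → P (supp p) := by
    intro p hp q hq
    have key : ∀ s : Finset (Fin t), s ⊆ supp p →
        ψ (fun i => if i ∈ s then q i else p i) ∈ root H := by
      intro s
      induction s using Finset.induction_on with
      | empty => intro _; simpa using hp
      | insert a s has ih =>
        intro hs
        have ha : a ∈ supp p := hs (Finset.mem_insert_self a s)
        have h1 := hchange _ (ih ((Finset.subset_insert a s).trans hs)) a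
          (by rw [if_neg has]; exact (hsupp p a).mp ha) (q a) ((hsupp q a).mp (hq.symm ▸ ha))
        convert h1 using 2
        funext i
        rcases eq_or_ne i a with rfl | hia
        · simp
        · simp [Function.update_of_ne hia, hia]
    convert key (supp p) subset_rfl using 2
    funext i
    by_cases hi : i ∈ supp p
    · rw [if_pos hi]
    · rw [if_neg hi]
      have h1 : p i = 0 := by simpa [hsupp] using hi
      have h2 : q i = 0 := by rw [← hq] at hi; simpa [hsupp] using hi
      rw [h1, h2]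
  -- shrink the support
  obtain ⟨i₀, j₀, hij₀, hpair⟩ : ∃ i j, i ≠ j ∧ P {i, j} := by
    obtain ⟨i, hi, j, hj, hij⟩ := Finset.one_lt_card.mp (by omega : 1 < (supp p₀).card)
    refine ⟨i, j, hij, ?_⟩
    have hi0 := (hsupp p₀ i).mp hi
    have hj0 := (hsupp p₀ j).mp hj
    obtain ⟨qi, hqim, hqi⟩ := (hD.nondegenerate i _ (p₀ i).2 (fun e => hi0 (Subtype.ext e))).2
    obtain ⟨qj, hqj0, hqjn, hqj⟩ : ∃ q : D j, q ≠ 0 ∧ p₀ j + q ≠ 0 ∧ f (p₀ j : Vs) q = 0 := by
      by_cases hF : Nat.card F = 2
      · have hk3 : 3 ≤ k := by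
          rcases Nat.lt_or_ge k 3 with h | h
          · exact absurd ⟨by omega, hF⟩ hex
          · exact h
        let φ : D j →ₗ[F] F := (sympBilin m F (p₀ j : Vs)).comp (D j).subtype
        have h1 := φ.finrank_range_add_finrank_ker
        have h2 : Module.finrank F φ.range ≤ 1 := by simpa using Submodule.finrank_le φ.range
        rw [hD.decomp.finrank_eq] at h1
        obtain ⟨q, hq, hqn⟩ : ∃ q ∈ φ.ker, q ∉ Submodule.span F {p₀ j} := by
          by_contra hcon
          push Not at hcon
          have h4 := Submodule.finrank_mono (show φ.ker ≤ Submodule.span F {p₀ j} from hcon)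
          rw [finrank_span_singleton hj0] at h4
          omega
        refine ⟨q, fun e => hqn (e ▸ Submodule.zero_mem _), fun e => hqn ?_, by simpa [φ] using hq⟩
        rw [eq_neg_of_add_eq_zero_right e]
        exact Submodule.neg_mem _ (Submodule.mem_span_singleton_self _)
      · obtain ⟨c, hc0, hc1⟩ : ∃ c : F, c ≠ 0 ∧ c ≠ -1 := by
          by_contra hcon
          push Not at hcon
          refine hF (Nat.card_eq_two_iff.mpr ⟨0, -1, (neg_ne_zero.mpr one_ne_zero).symm,
            Set.eq_univ_of_forall fun x => ?_⟩)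
          by_cases hx : x = 0
          · exact Or.inl hx
          · exact Or.inr (hcon x hx)
        refine ⟨c • p₀ j, smul_ne_zero hc0 hj0, fun e => ?_, by
          rw [Submodule.coe_smul, form_smul_right, sympForm_self, mul_zero]⟩
        have h1 : (1 + c) • p₀ j = 0 := by rw [add_smul, one_smul]; exact e
        rcases smul_eq_zero.mp h1 with h | h
        · exact hc1 (by linear_combination h)
        · exact hj0 h
    let p' : ∀ l, D l := Function.update (Function.update (fun l => -p₀ l) i ⟨qi, hqim⟩) j qj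
    have hp'i : p' i = ⟨qi, hqim⟩ := by simp [p', Function.update_of_ne hij]
    have hp'j : p' j = qj := by simp [p']
    have hp'o : ∀ l, l ≠ i → l ≠ j → p' l = -p₀ l := fun l h1 h2 => by
      simp [p', Function.update_of_ne h1, Function.update_of_ne h2]
    have hs' : supp p' = supp p₀ := by
      ext l
      rw [hsupp, hsupp]
      rcases eq_or_ne l i with rfl | h1
      · rw [hp'i]
        exact iff_of_true (fun e => hqi (by rw [show qi = 0 from congrArg Subtype.val e,
          sympForm_comm, form_zero_left, neg_zero])) hi0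
      rcases eq_or_ne l j with rfl | h2
      · rw [hp'j]; exact iff_of_true hqj0 hj0
      · rw [hp'o l h1 h2, ne_eq, neg_eq_zero]
    have hff : f (ψ p₀) (ψ p') = f (p₀ i : Vs) qi := by
      show f (ψ₀ p₀) (ψ₀ p') = _
      rw [hψf, Finset.sum_eq_single i]
      · rw [hp'i]
      · intro l _ hli
        rcases eq_or_ne l j with rfl | h2
        · rw [hp'j, hqj]
        · rw [hp'o l hli h2, Submodule.coe_neg, ← neg_one_smul F ((p₀ l : Vs)), form_smul_right,
            sympForm_self, mul_zero]
      · simp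
    have h1 := root_add hHK hp₀ (hP p₀ hp₀ p' hs') (by rw [hff]; exact hqi)
    rw [← map_add] at h1
    have h2 := hP _ h1
    have h3 : supp (p₀ + p') = {i, j} := by
      ext l
      rw [hsupp, Pi.add_apply, Finset.mem_insert, Finset.mem_singleton]
      rcases eq_or_ne l i with rfl | hli
      · simp only [true_or, iff_true]
        rw [hp'i]
        intro e
        have h4 : (p₀ l : Vs) + qi = 0 := congrArg Subtype.val e
        have h5 : f (p₀ l : Vs) ((p₀ l : Vs) + qi) = f (p₀ l : Vs) qi := by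
          rw [form_add_right, sympForm_self, zero_add]
        rw [h4, sympForm_comm, form_zero_left, neg_zero] at h5
        exact hqi h5.symm
      rcases eq_or_ne l j with rfl | hlj
      · simp only [or_true, iff_true]; rw [hp'j]; exact hqjn
      · rw [hp'o l hli hlj, add_neg_cancel]; simp [hli, hlj]
    exact h3 ▸ h2
  -- permutations move the pair
  have hperm : ∀ (σ : Equiv.Perm (Fin t)), P {σ i₀, σ j₀} := by
    intro σ
    choose ε hε using fun i => exists_isometry k (D i) (D (σ i)) (hD.decomp.finrank_eq i)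
      (hD.decomp.finrank_eq _) (hD.nondegenerate i) (hD.nondegenerate _)
    let L₀ : (∀ i, D i) ≃ₗ[F] (∀ i, D i) :=
      (LinearEquiv.piCongrRight ε).trans (LinearEquiv.piCongrLeft F (fun i => D i) σ)
    have hL₀ : ∀ p i, L₀ p (σ i) = ε i (p i) := fun p i => by
      show (Equiv.piCongrLeft (fun i => D i) σ) (fun i => ε i (p i)) (σ i) = _
      rw [Equiv.piCongrLeft_apply_apply]
    let L : Vs ≃ₗ[F] Vs := ψ.symm.trans (L₀.trans ψ)
    let gσ : GL (Fin m ⊕ Fin m) F := (glEquiv _ F).symm L
    have hgσ : ∀ v, (gσ : Matrix (Fin m ⊕ Fin m) (Fin m ⊕ Fin m) F) *ᵥ v = L v := fun v =>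
      glEquiv_symm_mulVec L v
    have hgs : ∀ p, (gσ : Matrix (Fin m ⊕ Fin m) (Fin m ⊕ Fin m) F) *ᵥ ψ p = ψ (L₀ p) := fun p => by
      rw [hgσ]; simp [L]
    have hmemσ : gσ ∈ Cfsg.Geo.decompositionStabilizer D ⊓ Cfsg.spGL m F := by
      refine ⟨⟨σ, fun i => hmap gσ i (σ i) fun x hx => ?_⟩, fun u v => ?_⟩
      · rw [show x = ψ (Pi.single i ⟨x, hx⟩) from (hψsingle i ⟨x, hx⟩).symm, hgs]
        have : L₀ (Pi.single i ⟨x, hx⟩) = Pi.single (σ i) (ε i ⟨x, hx⟩) := funext fun l => by
          obtain ⟨l, rfl⟩ := σ.surjective l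
          rw [hL₀]
          rcases eq_or_ne l i with rfl | hli
          · rw [Pi.single_eq_same, Pi.single_eq_same]
          · rw [Pi.single_eq_of_ne hli, Pi.single_eq_of_ne (fun h => hli (σ.injective h)), map_zero]
        rw [this, hψsingle]; exact Submodule.coe_mem _
      · show f ((gσ : Matrix (Fin m ⊕ Fin m) (Fin m ⊕ Fin m) F) *ᵥ u)
          ((gσ : Matrix (Fin m ⊕ Fin m) (Fin m ⊕ Fin m) F) *ᵥ v) = f u v
        obtain ⟨p, rfl⟩ := ψ.surjective u
        obtain ⟨q, rfl⟩ := ψ.surjective v
        rw [hgs, hgs]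
        show f (ψ₀ (L₀ p)) (ψ₀ (L₀ q)) = f (ψ₀ p) (ψ₀ q)
        rw [hψf, hψf, ← Equiv.sum_comp σ]
        exact Finset.sum_congr rfl fun i _ => by rw [hL₀, hL₀, hε]
    obtain ⟨a, ha⟩ := hne i₀
    obtain ⟨b, hb⟩ := hne j₀
    let p : ∀ l, D l := Pi.single i₀ a + Pi.single j₀ b
    have hps : supp p = {i₀, j₀} := by
      ext l
      rw [hsupp, Finset.mem_insert, Finset.mem_singleton]
      rcases eq_or_ne l i₀ with rfl | h1
      · simp [p, Pi.single_eq_of_ne hij₀, ha]
      rcases eq_or_ne l j₀ with rfl | h2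
      · simp [p, Pi.single_eq_of_ne h1, hb]
      · simp [p, Pi.single_eq_of_ne h1, Pi.single_eq_of_ne h2, h1, h2]
    have h1 := root_map hHK (hMH hmemσ) (hpair p hps)
    rw [hgs] at h1
    have h2 := hP _ h1
    have h3 : supp (L₀ p) = {σ i₀, σ j₀} := by
      ext l
      obtain ⟨l, rfl⟩ := σ.surjective l
      have h4 := Finset.ext_iff.mp hps l
      rw [hsupp, Finset.mem_insert, Finset.mem_singleton] at h4
      rw [hsupp, hL₀, Finset.mem_insert, Finset.mem_singleton, σ.injective.eq_iff, σ.injective.eq_iff,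
        ← h4]
      simp
    exact h3 ▸ h2
  have hpairs : ∀ a b : Fin t, a ≠ b → P {a, b} := by
    intro a b hab
    set σ₁ := Equiv.swap i₀ a with hσ₁
    set σ₂ := Equiv.swap (σ₁ j₀) b
    have h1 : σ₁ i₀ = a := Equiv.swap_apply_left _ _
    have h2 : σ₂ a = a := Equiv.swap_apply_of_ne_of_ne
      (fun e => hij₀ (σ₁.injective (h1.trans e))) hab
    have := hperm (σ₁.trans σ₂)
    rwa [Equiv.trans_apply, Equiv.trans_apply, h1, h2,
      show σ₂ (σ₁ j₀) = b from Equiv.swap_apply_left _ _] at this
  -- grow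
  have hall : ∀ J : Finset (Fin t), P J := by
    intro J
    induction J using Finset.induction_on with
    | empty =>
      intro p hp
      have : p = 0 := funext fun i => by
        by_contra h; exact Finset.notMem_empty i (hp ▸ (hsupp p i).mpr h)
      rw [this, map_zero]
      exact hDroot ⟨0, by have := hD.decomp.two_le; omega⟩ 0 (Submodule.zero_mem _)
    | insert l J hlJ ih =>
      intro p hp
      rcases Finset.eq_empty_or_nonempty J with rfl | ⟨i, hiJ⟩
      · have : p = Pi.single l (p l) := funext fun j => by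
          rcases eq_or_ne j l with rfl | hjl
          · rw [Pi.single_eq_same]
          · rw [Pi.single_eq_of_ne hjl]
            by_contra h
            have := hp ▸ (hsupp p j).mpr h
            simp at this; exact hjl this
        rw [this, hψsingle]; exact hDroot l _ (p l).2
      have hil : i ≠ l := fun e => hlJ (e ▸ hiJ)
      have hpi : p i ≠ 0 := (hsupp p i).mp (hp.symm ▸ Finset.mem_insert_of_mem hiJ)
      have hpl : p l ≠ 0 := (hsupp p l).mp (hp.symm ▸ Finset.mem_insert_self l J)
      -- split the component at `i`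
      obtain ⟨y, hy, hne⟩ := (hD.nondegenerate i _ (p i).2 (fun e => hpi (Subtype.ext e))).2
      let u : ∀ j, D j := Function.update (Function.update p l 0) i (p i - ⟨y, hy⟩)
      let x : ∀ j, D j := Pi.single i ⟨y, hy⟩ + Pi.single l (p l)
      have hy0 : (⟨y, hy⟩ : D i) ≠ 0 := fun e => hne (by
        rw [show y = 0 from congrArg Subtype.val e, sympForm_comm, form_zero_left, neg_zero])
      have hui : p i - ⟨y, hy⟩ ≠ 0 := fun e => hne (by
        rw [← show (p i : Vs) = y from congrArg Subtype.val (sub_eq_zero.mp e), sympForm_self])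
      have hsu : supp u = J := by
        ext j
        rw [hsupp]
        rcases eq_or_ne j i with rfl | hji
        · simp [u, hui, hiJ]
        rcases eq_or_ne j l with rfl | hjl
        · simp [u, Function.update_of_ne hji, hlJ]
        · rw [show u j = p j by simp [u, Function.update_of_ne hji, Function.update_of_ne hjl],
            ← hsupp, hp, Finset.mem_insert]
          simp [hjl]
      have hsx : supp x = {i, l} := by
        ext j
        rw [hsupp, Finset.mem_insert, Finset.mem_singleton]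
        rcases eq_or_ne j i with rfl | hji
        · simp [x, Pi.single_eq_of_ne hil, hy0]
        rcases eq_or_ne j l with rfl | hjl
        · simp [x, Pi.single_eq_of_ne hji, hpl]
        · simp [x, Pi.single_eq_of_ne hji, Pi.single_eq_of_ne hjl, hji, hjl]
      have hux : f (ψ u) (ψ x) = f (p i : Vs) y := by
        show f (ψ₀ u) (ψ₀ x) = _
        rw [hψf, Finset.sum_eq_single i]
        · simp [u, x, Pi.single_eq_of_ne hil, ← sympBilin_apply]
          simp [sympBilin_apply, sympForm_self]
        · intro j _ hji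
          rcases eq_or_ne j l with rfl | hjl
          · simp [u, Function.update_of_ne hji, form_zero_left]
          · simp [x, Pi.single_eq_of_ne hji, Pi.single_eq_of_ne hjl, sympForm_comm _ (0 : Vs),
              form_zero_left]
        · simp
      have h1 := root_add hHK (ih u hsu) (hpairs i l hil x hsx) (by rw [hux]; exact hne)
      rw [← map_add] at h1
      convert h1 using 2
      funext j
      rcases eq_or_ne j i with rfl | hji
      · simp [u, x, Pi.single_eq_of_ne hil]
      rcases eq_or_ne j l with rfl | hjl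
      · simp [u, x, Function.update_of_ne hji, Pi.single_eq_of_ne hji]
      · simp [u, x, Function.update_of_ne hji, Function.update_of_ne hjl, Pi.single_eq_of_ne hji,
          Pi.single_eq_of_ne hjl]
  refine eq_spGL hHK fun v => ?_
  obtain ⟨p, rfl⟩ := ψ.surjective v
  exact hall _ p rfl

end Cfsg.Agent.Lib.SympMax
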