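import Cfsg.Agent.Lib.SympMax.Basic

/-!
Maximality of the stabiliser of a pair of complementary Lagrangians in the symplectic group, odd characteristic.
-/

set_option autoImplicit false

namespace Cfsg.Agent.Lib.SympMax

open Matrix Cfsg.Agent.Lib.Forms

variable {F : Type*} [Field F] {m : ℕ}

local notation "Vs" => (Fin m ⊕ Fin m → F)
local notation "f" => Cfsg.sympForm m F

theorem form_flip {u v : Vs} (h : f u v = 0) : f v u = 0 := by rw [sympForm_comm, h, neg_zero]

theorem zero_form (v : Vs) : f 0 v = 0 := by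
  simp only [← sympBilin_apply, map_zero, LinearMap.zero_apply]

theorem form_zero (v : Vs) : f v 0 = 0 := form_flip (zero_form v)

theorem E_comm {a b : Vs} (h : f a b = 0) : E a b = E b a := by
  refine Units.ext (Matrix.ext_iff_mulVec.mpr fun x => ?_)
  rw [E_mulVec h, E_mulVec (form_flip h)]
  abel

theorem E_add {c d b : Vs} (hcd : f c d = 0) (hcb : f c b = 0) (hbd : f b d = 0) :
    E c d * E c b = E c (d + b) := by
  refine Units.ext (Matrix.ext_iff_mulVec.mpr fun x => ?_)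
  rw [Units.val_mul, ← mulVec_mulVec, E_mulVec hcd, E_mulVec hcb,
    E_mulVec (by rw [form_add_right, hcd, hcb, add_zero])]
  simp only [form_add_left, form_smul_left, form_add_right, sympForm_self, hcd, hbd, form_flip hcb]
  match_scalars <;> ring

theorem conj_E {g : GL (Fin m ⊕ Fin m) F} (hg : g ∈ Cfsg.spGL m F) (a b : Vs) :
    g * E a b * g⁻¹ = E ((g : Matrix (Fin m ⊕ Fin m) (Fin m ⊕ Fin m) F) *ᵥ a)
      ((g : Matrix (Fin m ⊕ Fin m) (Fin m ⊕ Fin m) F) *ᵥ b) := by
  simp only [E, ← mulVec_add, ← conj_T hg]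
  group

/-- `E(c u, v)` lies in `H` for all `c`. -/
def PairIn (H : Subgroup (GL (Fin m ⊕ Fin m) F)) (u v : Vs) : Prop :=
  f u v = 0 ∧ ∀ c : F, E (c • u) v ∈ H

variable {H : Subgroup (GL (Fin m ⊕ Fin m) F)}

theorem PairIn.map (hH : H ≤ Cfsg.spGL m F) {g : GL (Fin m ⊕ Fin m) F} (hg : g ∈ H) {u v : Vs}
    (h : PairIn H u v) :
    PairIn H ((g : Matrix (Fin m ⊕ Fin m) (Fin m ⊕ Fin m) F) *ᵥ u)
      ((g : Matrix (Fin m ⊕ Fin m) (Fin m ⊕ Fin m) F) *ᵥ v) := by
  refine ⟨by rw [apply_sp (hH hg)]; exact h.1, fun c => ?_⟩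
  rw [← mulVec_smul, ← conj_E (hH hg)]
  exact H.mul_mem (H.mul_mem hg (h.2 c)) (H.inv_mem hg)

theorem PairIn.symm {u v : Vs} (h : PairIn H u v) : PairIn H v u := by
  refine ⟨form_flip h.1, fun c => ?_⟩
  rcases eq_or_ne c 0 with rfl | hc
  · have : E ((0 : F) • v) u = 1 := Units.ext (Matrix.ext_iff_mulVec.mpr fun x => by
      rw [zero_smul, E_mulVec (zero_form u), form_zero]; simp)
    rw [this]; exact H.one_mem
  · have : E (c • v) u = E (c • u) v := by
      refine Units.ext (Matrix.ext_iff_mulVec.mpr fun x => ?_)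
      rw [E_mulVec (by rw [form_smul_left, form_flip h.1, mul_zero]),
        E_mulVec (by rw [form_smul_left, h.1, mul_zero]), form_smul_right, form_smul_right, smul_smul, smul_smul]
      match_scalars <;> ring
    rw [this]; exact h.2 c

variable {X Y : Submodule F (Fin m ⊕ Fin m → F)}

section

variable (hX : ∀ u ∈ X, ∀ v ∈ X, Cfsg.sympForm m F u v = 0)
  (hY : ∀ u ∈ Y, ∀ v ∈ Y, Cfsg.sympForm m F u v = 0) (hsup : X ⊔ Y = ⊤) (hinf : X ⊓ Y = ⊥)
include hX hY hsup hinf

theorem sep_dual [Finite F] {S : Submodule F Vs} (hS : S ≤ Y) {y : Vs} (hy : y ∈ Y) (hyS : y ∉ S) :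
    ∃ p ∈ X, (∀ s ∈ S, f p s = 0) ∧ f p y = 1 := by
  have hg := sympBilin_goodForm (F := F) (m := m)
  have hnot : y ∉ X ⊔ S := by
    intro h
    obtain ⟨x, hx, s, hs, hxs⟩ := Submodule.mem_sup.mp h
    have hxY : x ∈ Y := by rw [eq_sub_of_add_eq hxs]; exact Y.sub_mem hy (hS hs)
    have : x ∈ X ⊓ Y := ⟨hx, hxY⟩
    rw [hinf, Submodule.mem_bot] at this
    rw [this, zero_add] at hxs
    exact hyS (hxs ▸ hs)
  obtain ⟨a, ha, -, hay⟩ := hg.exists_sep hnot
  simp only [sympBilin_apply] at ha hay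
  refine ⟨a, ?_, fun s hs => ha s (Submodule.mem_sup_right hs), hay⟩
  obtain ⟨a₀, ha₀, a₁, ha₁, rfl⟩ := Submodule.mem_sup.mp (hsup.ge (Submodule.mem_top (x := a)))
  have h0 : a₁ = 0 := hg.nondeg a₁ fun z => by
    obtain ⟨z₀, hz₀, z₁, hz₁, rfl⟩ := Submodule.mem_sup.mp (hsup.ge (Submodule.mem_top (x := z)))
    rw [sympBilin_apply, form_add_right, hY a₁ ha₁ z₁ hz₁, add_zero]
    have h1 := ha z₀ (Submodule.mem_sup_left hz₀)
    rwa [form_add_left, hX a₀ ha₀ z₀ hz₀, zero_add] at h1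
  rw [h0, add_zero]; exact ha₀

/-- The same, given a vector of `Y` orthogonal to the components in `X`. -/
theorem exists_root_of_mem [Finite F] (h2 : (2 : F) ≠ 0) (hH : H ≤ Cfsg.spGL m F)
    (hold : ∀ a ∈ X, ∀ b ∈ Y, f a b = 0 → E a b ∈ H)
    {u₀ u₁ v₀ v₁ : Vs} (hu₀ : u₀ ∈ X) (hu₁ : u₁ ∈ Y) (hv₀ : v₀ ∈ X) (hv₁ : v₁ ∈ Y)
    (hP : PairIn H (u₀ + u₁) (v₀ + v₁)) (hu : u₁ ≠ 0) (hv : v₁ ∉ Submodule.span F {u₁})
    {b : Vs} (hbY : b ∈ Y) (hbu : f b u₀ = 0) (hbv : f b v₀ = 0)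
    (hb : b ∉ Submodule.span F ({u₁, v₁} : Set Vs)) :
    ∃ b ∈ Y, b ≠ 0 ∧ b ∈ root H := by
  have hb0 : b ≠ 0 := fun e => hb (e ▸ Submodule.zero_mem _)
  refine ⟨b, hbY, hb0, ?_⟩
  have hspan : ∀ x y : F, x • u₁ + y • v₁ ∈ Submodule.span F ({u₁, v₁} : Set Vs) := fun x y =>
    Submodule.add_mem _ (Submodule.smul_mem _ _ (Submodule.subset_span (by simp)))
      (Submodule.smul_mem _ _ (Submodule.subset_span (by simp)))
  -- the pair `(u, b)`
  obtain ⟨a, ha, haS, hav⟩ := sep_dual hX hY hsup hinf (S := Submodule.span F ({b, u₁} : Set Vs))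
    (Submodule.span_le.mpr (by rintro z (rfl | rfl) <;> assumption)) hv₁ (by
      intro h
      obtain ⟨x, y, hxy⟩ := Submodule.mem_span_pair.mp h
      rcases eq_or_ne x 0 with rfl | hx
      · rw [zero_smul, zero_add] at hxy
        exact hv (Submodule.mem_span_singleton.mpr ⟨y, hxy⟩)
      · refine hb ?_
        have : b = (-(x⁻¹ * y)) • u₁ + x⁻¹ • v₁ := by
          rw [← hxy, smul_add, smul_smul, smul_smul, inv_mul_cancel₀ hx, one_smul, neg_smul]; abel
        rw [this]; exact hspan _ _)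
  have hab : f a b = 0 := haS b (Submodule.subset_span (by simp))
  have hau : f a u₁ = 0 := haS u₁ (Submodule.subset_span (by simp))
  set u := u₀ + u₁ with hudef
  set v := v₀ + v₁ with hvdef
  have hua : f u (-a) = 0 := by
    rw [← neg_one_smul F a, form_smul_right, hudef, form_add_left, hX u₀ hu₀ a ha, form_flip hau]
    ring
  have hva : f v (-a) = 1 := by
    rw [← neg_one_smul F a, form_smul_right, hvdef, form_add_left, hX v₀ hv₀ a ha, sympForm_comm, hav]
    ring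
  have hub : f u b = 0 := by rw [hudef, form_add_left, form_flip hbu, hY u₁ hu₁ b hbY, add_zero]
  have hvb : f v b = 0 := by rw [hvdef, form_add_left, form_flip hbv, hY v₁ hv₁ b hbY, add_zero]
  have hnab : f (-a) b = 0 := by rw [← neg_one_smul F a, form_smul_left, hab, mul_zero]
  have hPub : PairIn H u b := by
    refine ⟨hub, fun c => ?_⟩
    have h1 := (hP.map hH (hold _ (X.neg_mem ha) b hbY hnab)).2 c
    rw [E_mulVec hnab, E_mulVec hnab, hua, hub, hva, hvb] at h1
    simp only [zero_smul, add_zero, one_smul] at h1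
    rw [← E_add (by rw [form_smul_left, hP.1, mul_zero])
        (by rw [form_smul_left, hub, mul_zero]) (form_flip hvb)] at h1
    exact (H.mul_mem_cancel_left (hP.2 c)).mp h1
  obtain ⟨p, hp, hpS, hpu⟩ := sep_dual hX hY hsup hinf (S := Submodule.span F {b})
    ((Submodule.span_singleton_le_iff_mem _ _).mpr hbY) hu₁ (by
      intro h
      obtain ⟨x, hx⟩ := Submodule.mem_span_singleton.mp h
      have hx0 : x ≠ 0 := fun e => hu (by rw [← hx, e, zero_smul])
      refine hb ?_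
      have : b = x⁻¹ • u₁ + (0 : F) • v₁ := by
        rw [← hx, smul_smul, inv_mul_cancel₀ hx0, one_smul, zero_smul, add_zero]
      rw [this]; exact hspan _ _)
  have hpb : f p b = 0 := hpS b (Submodule.mem_span_singleton_self b)
  have hnpb : f (-p) b = 0 := by rw [← neg_one_smul F p, form_smul_left, hpb, mul_zero]
  have hup : f u (-p) = 1 := by
    rw [← neg_one_smul F p, form_smul_right, hudef, form_add_left, hX u₀ hu₀ p hp, sympForm_comm, hpu]
    ring
  have hbp : f b (-p) = 0 := form_flip hnpb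
  have hP2 := hPub.map hH (hold _ (X.neg_mem hp) b hbY hnpb)
  rw [E_mulVec hnpb, E_mulVec hnpb, hup, hub, hbp, sympForm_self, one_smul, zero_smul, zero_smul,
    add_zero, add_zero, add_zero] at hP2
  intro d
  have h3 : E ((d / 2) • (u + b)) b = E ((d / 2) • u) b * T b d := by
    refine Units.ext (Matrix.ext_iff_mulVec.mpr fun x => ?_)
    rw [Units.val_mul, ← mulVec_mulVec, T_mulVec, E_mulVec (by rw [form_smul_left, hP2.1, mul_zero]),
      E_mulVec (by rw [form_smul_left, hub, mul_zero])]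
    simp only [form_add_left, form_smul_left, form_add_right, form_smul_right, sympForm_self,
      form_flip hub]
    match_scalars <;> field_simp <;> ring
  have h4 := hP2.2 (d / 2)
  rw [h3] at h4
  exact (H.mul_mem_cancel_left (hPub.2 (d / 2))).mp h4

/-- A pair with the first component in the kernel yields a transvection. -/
theorem exists_root_of_ker [Finite F] (h2 : (2 : F) ≠ 0) (hH : H ≤ Cfsg.spGL m F)
    (hold : ∀ a ∈ X, ∀ b ∈ Y, f a b = 0 → E a b ∈ H)
    {u₀ u₁ v₀ v₁ : Vs} (hu₀ : u₀ ∈ X) (hu₁ : u₁ ∈ Y) (hv₀ : v₀ ∈ X) (hv₁ : v₁ ∈ Y)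
    (hP : PairIn H (u₀ + u₁) (v₀ + v₁)) (hu : u₁ ≠ 0) (hv : v₁ ∉ Submodule.span F {u₁})
    (h0 : f u₁ u₀ = 0) (h1 : f u₁ v₀ = 0) : ∃ b ∈ Y, b ≠ 0 ∧ b ∈ root H := by
  obtain ⟨a, ha, haS, hav⟩ := sep_dual hX hY hsup hinf (S := Submodule.span F {u₁})
    ((Submodule.span_singleton_le_iff_mem _ _).mpr hu₁) hv₁ hv
  have hau : f a u₁ = 0 := haS u₁ (Submodule.mem_span_singleton_self _)
  have hnab : f (-a) u₁ = 0 := by rw [← neg_one_smul F a, form_smul_left, hau, mul_zero]
  have hua : f (u₀ + u₁) (-a) = 0 := by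
    rw [← neg_one_smul F a, form_smul_right, form_add_left, hX u₀ hu₀ a ha, form_flip hau]
    ring
  have hva : f (v₀ + v₁) (-a) = 1 := by
    rw [← neg_one_smul F a, form_smul_right, form_add_left, hX v₀ hv₀ a ha, sympForm_comm, hav]
    ring
  have hub : f (u₀ + u₁) u₁ = 0 := by rw [form_add_left, form_flip h0, sympForm_self, add_zero]
  have hvb : f (v₀ + v₁) u₁ = 0 := by rw [form_add_left, form_flip h1, hY v₁ hv₁ u₁ hu₁, add_zero]
  refine ⟨u₁, hu₁, hu, fun d => ?_⟩
  have hPub : ∀ c : F, E (c • (u₀ + u₁)) u₁ ∈ H := by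
    intro c
    have h3 := (hP.map hH (hold _ (X.neg_mem ha) u₁ hu₁ hnab)).2 c
    rw [E_mulVec hnab, E_mulVec hnab, hua, hub, hva, hvb] at h3
    simp only [zero_smul, add_zero, one_smul] at h3
    rw [← E_add (by rw [form_smul_left, hP.1, mul_zero])
        (by rw [form_smul_left, hub, mul_zero]) (form_flip hvb)] at h3
    exact (H.mul_mem_cancel_left (hP.2 c)).mp h3
  have h01 : f u₀ u₁ = 0 := form_flip h0
  have h3 : E ((d / 2) • (u₀ + u₁)) u₁ = E ((d / 2) • u₀) u₁ * T u₁ d := by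
    refine Units.ext (Matrix.ext_iff_mulVec.mpr fun x => ?_)
    rw [Units.val_mul, ← mulVec_mulVec, T_mulVec, E_mulVec (by rw [form_smul_left, hub, mul_zero]),
      E_mulVec (by rw [form_smul_left, h01, mul_zero])]
    simp only [form_add_left, form_smul_left, form_add_right, form_smul_right, sympForm_self,
      form_flip h01]
    match_scalars <;> field_simp <;> ring
  have h4 := hPub (d / 2)
  rw [h3] at h4
  exact (H.mul_mem_cancel_left (hold _ (X.smul_mem _ hu₀) u₁ hu₁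
    (by rw [form_smul_left, h01, mul_zero]))).mp h4

omit hX hY hsup hinf in
theorem gram_det (t l p w r : F) (h : p * r = w * w) :
    (-(2 * t) + t * t * (p + 2 * w + r)) * (2 * t * l + t * t * (p + 2 * l * w + l * l * r))
      - (t * t * (p + w + l * (w + r))) * (t * t * (p + w + l * (w + r)))
      = -(2 * t * t) * (2 * l + t * ((1 - l) * (p - l * r))) := by
  linear_combination (t * t * t * t * (1 - l) * (1 - l)) * h

/-- A pair with independent components in `Y` yields a transvection with centre in `Y`. -/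
theorem exists_root [Finite F] (h2 : (2 : F) ≠ 0) (hH : H ≤ Cfsg.spGL m F)
    (hdim : 3 ≤ Module.finrank F Y) (hold : ∀ a ∈ X, ∀ b ∈ Y, f a b = 0 → E a b ∈ H)
    {u₀ u₁ v₀ v₁ : Vs} (hu₀ : u₀ ∈ X) (hu₁ : u₁ ∈ Y) (hv₀ : v₀ ∈ X) (hv₁ : v₁ ∈ Y)
    (hP : PairIn H (u₀ + u₁) (v₀ + v₁)) (hu : u₁ ≠ 0) (hv : v₁ ∉ Submodule.span F {u₁}) :
    ∃ b ∈ Y, b ≠ 0 ∧ b ∈ root H := by
  have hker : ∀ c₀ d₀ : Vs, ∃ z ∈ Y, z ≠ 0 ∧ f z c₀ = 0 ∧ f z d₀ = 0 := by
    intro c₀ d₀
    let φ : Y →ₗ[F] F × F := LinearMap.prod (((sympBilin m F).flip c₀).comp Y.subtype)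
      (((sympBilin m F).flip d₀).comp Y.subtype)
    have h1 := φ.finrank_range_add_finrank_ker
    have h3 : Module.finrank F φ.range ≤ 2 := by simpa using Submodule.finrank_le φ.range
    have hk : φ.ker ≠ ⊥ := fun e => by rw [e, finrank_bot] at h1; omega
    obtain ⟨z, hz, hz0⟩ := Submodule.exists_mem_ne_zero_of_ne_bot hk
    have hz' := LinearMap.mem_ker.mp hz
    simp only [φ, LinearMap.prod_apply, Function.prod_apply, Prod.mk_eq_zero] at hz'
    exact ⟨z, z.2, fun e => hz0 (Subtype.ext e), by simpa using hz'.1, by simpa using hz'.2⟩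
  have hspan : ∀ x y : F, x • u₁ + y • v₁ ∈ Submodule.span F ({u₁, v₁} : Set Vs) := fun x y =>
    Submodule.add_mem _ (Submodule.smul_mem _ _ (Submodule.subset_span (by simp)))
      (Submodule.smul_mem _ _ (Submodule.subset_span (by simp)))
  obtain ⟨z, hzY, hz0, hzu, hzv⟩ := hker u₀ v₀
  by_cases hzs : z ∈ Submodule.span F ({u₁, v₁} : Set Vs)
  swap
  · exact exists_root_of_mem hX hY hsup hinf h2 hH hold hu₀ hu₁ hv₀ hv₁ hP hu hv hzY hzu hzv hzs
  obtain ⟨x, y, hxy⟩ := Submodule.mem_span_pair.mp hzs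
  have hw : f v₁ u₀ = f u₁ v₀ := by
    have h3 := hP.1
    simp only [form_add_left, form_add_right, hX u₀ hu₀ v₀ hv₀, hY u₁ hu₁ v₁ hv₁,
      sympForm_comm u₀ v₁] at h3
    linear_combination -h3
  by_cases hk1 : f u₁ u₀ = 0 ∧ f u₁ v₀ = 0
  · exact exists_root_of_ker hX hY hsup hinf h2 hH hold hu₀ hu₁ hv₀ hv₁ hP hu hv hk1.1 hk1.2
  by_cases hk2 : f v₁ v₀ = 0 ∧ f v₁ u₀ = 0
  · refine exists_root_of_ker hX hY hsup hinf h2 hH hold hv₀ hv₁ hu₀ hu₁ hP.symm
      (fun e => hv (by rw [e]; exact Submodule.zero_mem _)) (fun h => ?_) hk2.1 hk2.2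
    obtain ⟨c, hc⟩ := Submodule.mem_span_singleton.mp h
    have hc0 : c ≠ 0 := fun e => hu (by rw [← hc, e, zero_smul])
    exact hv (Submodule.mem_span_singleton.mpr ⟨c⁻¹, by
      rw [← hc, smul_smul, inv_mul_cancel₀ hc0, one_smul]⟩)
  have hxy0 : x ≠ 0 ∨ y ≠ 0 := by
    by_contra hno
    push Not at hno
    exact hz0 (by rw [← hxy, hno.1, hno.2, zero_smul, zero_smul, add_zero])
  rw [← hxy, form_add_left, form_smul_left, form_smul_left, hw] at hzu
  rw [← hxy, form_add_left, form_smul_left, form_smul_left] at hzv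
  set p := f u₁ u₀ with hpdef
  set w := f u₁ v₀ with hwdef
  set r := f v₁ v₀ with hrdef
  have hpr : p * r = w * w := by
    have e1 : x * (p * r - w * w) = 0 := by linear_combination r * hzu - w * hzv
    have e2 : y * (p * r - w * w) = 0 := by linear_combination p * hzv - w * hzu
    rcases hxy0 with h | h
    · exact sub_eq_zero.mp ((mul_eq_zero.mp e1).resolve_left h)
    · exact sub_eq_zero.mp ((mul_eq_zero.mp e2).resolve_left h)
  have hw0 : w ≠ 0 := by
    intro e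
    rw [e, mul_zero, mul_eq_zero] at hpr
    rcases hpr with h | h
    · exact hk1 ⟨h, e⟩
    · exact hk2 ⟨h, by rw [hw]; exact e⟩
  have hp0 : p ≠ 0 := fun e => by rw [e, zero_mul] at hpr; exact hw0 (mul_self_eq_zero.mp hpr.symm)
  have hr0 : r ≠ 0 := fun e => by rw [e, mul_zero] at hpr; exact hw0 (mul_self_eq_zero.mp hpr.symm)
  obtain ⟨b, hbY, hbs, hbv⟩ : ∃ b ∈ Y, b ∉ Submodule.span F ({u₁, v₁} : Set Vs) ∧ f b v₀ = 1 := by
    have hex : ∃ b ∈ Y, b ∉ Submodule.span F ({u₁, v₁} : Set Vs) := by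
      by_contra hno
      push Not at hno
      have h4 := Submodule.finrank_mono (show Y ≤ Submodule.span F ({u₁, v₁} : Set Vs) from hno)
      have h5 : Module.finrank F (Submodule.span F ({u₁, v₁} : Set Vs)) ≤ 2 := by
        classical
        have := finrank_span_le_card (R := F) ({u₁, v₁} : Set Vs)
        refine this.trans ?_
        rw [Set.toFinset_insert, Set.toFinset_singleton]
        exact Finset.card_le_two
      omega
    obtain ⟨b, hb, hbs⟩ := hex
    refine ⟨b + ((1 - f b v₀) / r) • v₁, Y.add_mem hb (Y.smul_mem _ hv₁), fun h => hbs ?_, ?_⟩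
    · have := Submodule.sub_mem _ h (hspan 0 ((1 - f b v₀) / r))
      simpa using this
    · rw [form_add_left, form_smul_left, ← hrdef, div_mul_cancel₀ _ hr0]
      ring
  set l := f b u₀ with hldef
  obtain ⟨t, ht, hdet⟩ : ∃ t : F, t ≠ 0 ∧ 2 * l + t * ((1 - l) * (p - l * r)) ≠ 0 := by
    by_contra hno
    push Not at hno
    have e1 := hno 1 one_ne_zero
    have e2 := hno (-1) (neg_ne_zero.mpr one_ne_zero)
    have e3 : l = 0 := by
      have : 2 * (2 * l) = 0 := by linear_combination e1 + e2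
      exact ((mul_eq_zero.mp ((mul_eq_zero.mp this).resolve_left h2))).resolve_left h2
    rw [e3] at e1
    exact hp0 (by linear_combination e1)
  have hsa : v₁ ∉ Submodule.span F ({u₁, b} : Set Vs) := by
    intro h
    obtain ⟨c, d, hcd⟩ := Submodule.mem_span_pair.mp h
    rcases eq_or_ne d 0 with rfl | hd
    · rw [zero_smul, add_zero] at hcd
      exact hv (Submodule.mem_span_singleton.mpr ⟨c, hcd⟩)
    · refine hbs ?_
      have : b = (-(d⁻¹ * c)) • u₁ + d⁻¹ • v₁ := by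
        rw [← hcd, smul_add, smul_smul, smul_smul, inv_mul_cancel₀ hd, one_smul, neg_smul]; abel
      rw [this]; exact hspan _ _
  have hsb : u₁ ∉ Submodule.span F ({v₁, b} : Set Vs) := by
    intro h
    obtain ⟨c, d, hcd⟩ := Submodule.mem_span_pair.mp h
    rcases eq_or_ne d 0 with rfl | hd
    · rw [zero_smul, add_zero] at hcd
      rcases eq_or_ne c 0 with rfl | hc
      · exact hu (by rw [← hcd, zero_smul])
      · exact hv (Submodule.mem_span_singleton.mpr ⟨c⁻¹, by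
          rw [← hcd, smul_smul, inv_mul_cancel₀ hc, one_smul]⟩)
    · refine hbs ?_
      have : b = d⁻¹ • u₁ + (-(d⁻¹ * c)) • v₁ := by
        rw [← hcd, smul_add, smul_smul, smul_smul, inv_mul_cancel₀ hd, one_smul, neg_smul]; abel
      rw [this]; exact hspan _ _
  obtain ⟨a₁, ha₁, ha₁S, ha₁u⟩ := sep_dual hX hY hsup hinf (S := Submodule.span F ({v₁, b} : Set Vs))
    (Submodule.span_le.mpr (by rintro z (rfl | rfl) <;> assumption)) hu₁ hsb
  obtain ⟨a₂, ha₂, ha₂S, ha₂v⟩ := sep_dual hX hY hsup hinf (S := Submodule.span F ({u₁, b} : Set Vs))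
    (Submodule.span_le.mpr (by rintro z (rfl | rfl) <;> assumption)) hv₁ hsa
  set a := a₁ + a₂ with hadef
  have haX : a ∈ X := X.add_mem ha₁ ha₂
  have hau : f a u₁ = 1 := by
    rw [hadef, form_add_left, ha₁u, ha₂S u₁ (Submodule.subset_span (by simp)), add_zero]
  have hav : f a v₁ = 1 := by
    rw [hadef, form_add_left, ha₂v, ha₁S v₁ (Submodule.subset_span (by simp)), zero_add]
  have hab : f a b = 0 := by
    rw [hadef, form_add_left, ha₁S b (Submodule.subset_span (by simp)),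
      ha₂S b (Submodule.subset_span (by simp)), zero_add]
  have hQ : PairIn H a b := ⟨hab, fun c => hold _ (X.smul_mem c haX) b hbY
    (by rw [form_smul_left, hab, mul_zero])⟩
  have hQ2 := hQ.map hH (hP.2 t)
  have ht0 : f (t • (u₀ + u₁)) (v₀ + v₁) = 0 := by rw [form_smul_left, hP.1, mul_zero]
  rw [E_mulVec ht0, E_mulVec ht0] at hQ2
  simp only [form_add_right, form_smul_right, hX a haX u₀ hu₀, hX a haX v₀ hv₀, hau, hav,
    ← hldef, hbv, hY b hbY u₁ hu₁, hY b hbY v₁ hv₁, zero_add, add_zero, mul_one] at hQ2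
  rw [show a + t • (v₀ + v₁) + (1 : F) • t • (u₀ + u₁)
      = (a + t • (u₀ + v₀)) + t • (u₁ + v₁) by module,
    show b + (t * l) • (v₀ + v₁) + (1 : F) • t • (u₀ + u₁)
      = t • (u₀ + l • v₀) + (b + t • (u₁ + l • v₁)) by module] at hQ2
  have hA1 : t • (u₁ + v₁) ≠ 0 := fun e => hv (Submodule.mem_span_singleton.mpr ⟨-1, by
    rw [eq_neg_of_add_eq_zero_right ((smul_eq_zero.mp e).resolve_left ht), neg_one_smul]⟩)
  have hB1 : b + t • (u₁ + l • v₁) ∉ Submodule.span F {t • (u₁ + v₁)} := by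
    intro h
    obtain ⟨c, hc⟩ := Submodule.mem_span_singleton.mp h
    refine hbs ?_
    have : b = (c * t - t) • u₁ + (c * t - t * l) • v₁ := by
      rw [eq_sub_of_add_eq hc.symm]; module
    rw [this]; exact hspan _ _
  obtain ⟨z', hz'Y, hz'0, hz'a, hz'b⟩ := hker (a + t • (u₀ + v₀)) (t • (u₀ + l • v₀))
  refine exists_root_of_mem hX hY hsup hinf h2 hH hold (X.add_mem haX (X.smul_mem t (X.add_mem hu₀ hv₀)))
    (Y.smul_mem t (Y.add_mem hu₁ hv₁)) (X.smul_mem t (X.add_mem hu₀ (X.smul_mem l hv₀)))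
    (Y.add_mem hbY (Y.smul_mem t (Y.add_mem hu₁ (Y.smul_mem l hv₁)))) hQ2 hA1 hB1 hz'Y hz'a hz'b
    fun h => ?_
  obtain ⟨c, d, hcd⟩ := Submodule.mem_span_pair.mp h
  rw [← hcd] at hz'a hz'b
  simp only [form_add_left, form_add_right, form_smul_left, form_smul_right, sympForm_comm u₁ a,
    sympForm_comm v₁ a, sympForm_comm b a, hau, hav, hab, hw, ← hpdef, ← hwdef, ← hrdef, ← hldef,
    hbv] at hz'a hz'b
  set P' := -(2 * t) + t * t * (p + 2 * w + r) with hP'
  set W' := t * t * (p + w + l * (w + r)) with hW'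
  set R' := 2 * t * l + t * t * (p + 2 * l * w + l * l * r) with hR'
  have i1 : c * P' + d * W' = 0 := by rw [hP', hW']; linear_combination hz'a
  have i2 : c * W' + d * R' = 0 := by rw [hW', hR']; linear_combination hz'b
  have hD : P' * R' - W' * W' ≠ 0 := by
    rw [hP', hW', hR', gram_det t l p w r hpr]
    exact mul_ne_zero (neg_ne_zero.mpr (mul_ne_zero (mul_ne_zero h2 ht) ht)) hdet
  have hc0 : c = 0 := (mul_eq_zero.mp (show c * (P' * R' - W' * W') = 0 by
    linear_combination R' * i1 - W' * i2)).resolve_right hD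
  have hd0 : d = 0 := (mul_eq_zero.mp (show d * (P' * R' - W' * W') = 0 by
    linear_combination P' * i2 - W' * i1)).resolve_right hD
  exact hz'0 (by rw [← hcd, hc0, hd0, zero_smul, zero_smul, add_zero])

/-- Then all of `Y` consists of centres. -/
theorem root_all [Finite F] (hH : H ≤ Cfsg.spGL m F) (hold : ∀ a ∈ X, ∀ b ∈ Y, f a b = 0 → E a b ∈ H)
    {b : Vs} (hb : b ∈ Y) (hb0 : b ≠ 0) (hbr : b ∈ root H) {y : Vs} (hy : y ∈ Y) : y ∈ root H := by
  by_cases hbs : b ∈ Submodule.span F {y - b}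
  · obtain ⟨x, hx⟩ := Submodule.mem_span_singleton.mp hbs
    have hx0 : x ≠ 0 := fun e => hb0 (by rw [← hx, e, zero_smul])
    have : y = (x⁻¹ + 1) • b := by
      rw [add_smul, one_smul]
      nth_rw 1 [← hx]
      rw [smul_smul, inv_mul_cancel₀ hx0, one_smul, sub_add_cancel]
    rw [this]; exact root_smul hbr _
  · obtain ⟨p, hp, hpS, hpb⟩ := sep_dual hX hY hsup hinf (S := Submodule.span F {y - b})
      ((Submodule.span_singleton_le_iff_mem _ _).mpr (Y.sub_mem hy hb)) hb hbs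
    have hpr : f (-p) (y - b) = 0 := by
      rw [← neg_one_smul F p, form_smul_left, hpS _ (Submodule.mem_span_singleton_self _), mul_zero]
    have h1 := root_map hH (hold _ (X.neg_mem hp) _ (Y.sub_mem hy hb) hpr) hbr
    rw [E_mulVec hpr, ← neg_one_smul F p, form_smul_right, sympForm_comm b p, hpb,
      hY b hb _ (Y.sub_mem hy hb)] at h1
    simpa using h1

/-- There is an isometry interchanging the two subspaces. -/
theorem exists_swap [Finite F] : ∃ g ∈ Cfsg.spGL m F,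
    (∀ x ∈ X, (g : Matrix (Fin m ⊕ Fin m) (Fin m ⊕ Fin m) F) *ᵥ x ∈ Y) ∧
    (∀ x ∈ Y, (g : Matrix (Fin m ⊕ Fin m) (Fin m ⊕ Fin m) F) *ᵥ x ∈ X) := by
  classical
  let β : Y →ₗ[F] Module.Dual F X :=
    { toFun := fun y => ((sympBilin m F).flip (y : Vs)).comp X.subtype
      map_add' := fun a b => LinearMap.ext fun x => by simp [form_add_right]
      map_smul' := fun c a => LinearMap.ext fun x => by simp [form_smul_right] }
  have hβ : Function.Injective β := by
    rw [injective_iff_map_eq_zero]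
    intro y hy
    have hg := sympBilin_goodForm (F := F) (m := m)
    refine Subtype.ext (hg.nondeg (y : Vs) fun z => ?_)
    obtain ⟨z₀, hz₀, z₁, hz₁, rfl⟩ := Submodule.mem_sup.mp (hsup.ge (Submodule.mem_top (x := z)))
    rw [sympBilin_apply, form_add_right, hY y y.2 z₁ hz₁, add_zero]
    refine form_flip ?_
    simpa [β] using LinearMap.congr_fun hy ⟨z₀, hz₀⟩
  have hβs : Function.Surjective β := by
    intro φ
    have hg := sympBilin_goodForm (F := F) (m := m)
    obtain ⟨π, hπ⟩ := LinearMap.exists_extend φ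
    obtain ⟨a, ha⟩ := hg.exists_vec π
    obtain ⟨a₀, ha₀, a₁, ha₁, rfl⟩ := Submodule.mem_sup.mp (hsup.ge (Submodule.mem_top (x := a)))
    refine ⟨-⟨a₁, ha₁⟩, LinearMap.ext fun x => ?_⟩
    have h1 := ha (x : Vs)
    rw [sympBilin_apply, form_add_left, hX a₀ ha₀ x x.2, zero_add] at h1
    rw [show φ x = π x from (LinearMap.congr_fun hπ x).symm, ← h1, map_neg]
    simpa [β] using (sympForm_comm a₁ (x : Vs)).symm
  let bX := Module.finBasis F X
  let φ : X ≃ₗ[F] Y := bX.toDualEquiv.trans (LinearEquiv.ofBijective β ⟨hβ, hβs⟩).symm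
  have hB : ∀ a c : X, f (a : Vs) (φ c) = bX.toDual c a := by
    intro a c
    have h1 : β (φ c) = bX.toDualEquiv c :=
      (LinearEquiv.ofBijective β ⟨hβ, hβs⟩).apply_symm_apply _
    have h2 := LinearMap.congr_fun h1 a
    simpa [β] using h2
  have hsymB : ∀ a c : X, bX.toDual c a = bX.toDual a c := by
    intro a c
    have : bX.toDual.flip = bX.toDual := by
      refine bX.ext fun i => bX.ext fun j => ?_
      rw [LinearMap.flip_apply, Module.Basis.toDual_apply, Module.Basis.toDual_apply]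
      split_ifs with h1 h2 h2 <;> first | rfl | (exact absurd h1.symm h2) | (exact absurd h2.symm h1)
    nth_rw 1 [← this]
    rfl
  let ψ₀ : X × X →ₗ[F] Vs :=
    (X.subtype.comp (LinearMap.fst F X X)) + ((Y.subtype.comp φ.toLinearMap).comp (LinearMap.snd F X X))
  have hψ : ∀ a c : X, ψ₀ (a, c) = (a : Vs) + φ c := fun a c => rfl
  have hψbij : Function.Bijective ψ₀ := by
    refine ⟨(injective_iff_map_eq_zero ψ₀).mpr ?_, fun v => ?_⟩
    · rintro ⟨a, c⟩ h
      rw [hψ] at h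
      have h1 : (a : Vs) ∈ X ⊓ Y := ⟨a.2, by rw [eq_neg_of_add_eq_zero_left h]; exact Y.neg_mem (φ c).2⟩
      rw [hinf, Submodule.mem_bot] at h1
      rw [h1, zero_add] at h
      have h3 : φ c = 0 := Subtype.ext h
      exact Prod.ext (Subtype.ext h1) (φ.map_eq_zero_iff.mp h3)
    · obtain ⟨a, ha, b, hb, rfl⟩ := Submodule.mem_sup.mp (hsup.ge (Submodule.mem_top (x := v)))
      exact ⟨(⟨a, ha⟩, φ.symm ⟨b, hb⟩), by rw [hψ, φ.apply_symm_apply]⟩
  let ψ := LinearEquiv.ofBijective ψ₀ hψbij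
  let J : (X × X) ≃ₗ[F] (X × X) :=
    { toFun := fun p => (-p.2, p.1)
      map_add' := fun p q => by simp [neg_add, add_comm]
      map_smul' := fun c p => by simp
      invFun := fun p => (p.2, -p.1)
      left_inv := fun p => by simp
      right_inv := fun p => by simp }
  let g : GL (Fin m ⊕ Fin m) F := (glEquiv _ F).symm (ψ.symm.trans (J.trans ψ))
  have hg : ∀ a c : X, (g : Matrix (Fin m ⊕ Fin m) (Fin m ⊕ Fin m) F) *ᵥ ((a : Vs) + φ c) = -(c : Vs) + φ a := by
    intro a c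
    rw [glEquiv_symm_mulVec, LinearEquiv.trans_apply, LinearEquiv.trans_apply,
      show (a : Vs) + φ c = ψ (a, c) from rfl, ψ.symm_apply_apply]
    rfl
  refine ⟨g, fun u v => ?_, fun x hx => ?_, fun x hx => ?_⟩
  · obtain ⟨⟨a, c⟩, rfl⟩ := ψ.surjective u
    obtain ⟨⟨a', c'⟩, rfl⟩ := ψ.surjective v
    show f ((g : Matrix (Fin m ⊕ Fin m) (Fin m ⊕ Fin m) F) *ᵥ ((a : Vs) + (φ c : Vs)))
        ((g : Matrix (Fin m ⊕ Fin m) (Fin m ⊕ Fin m) F) *ᵥ ((a' : Vs) + (φ c' : Vs))) =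
      f ((a : Vs) + (φ c : Vs)) ((a' : Vs) + (φ c' : Vs))
    rw [hg, hg]
    simp only [form_add_left, form_add_right, ← neg_one_smul F (c : Vs), ← neg_one_smul F (c' : Vs),
      form_smul_left, form_smul_right]
    rw [hX c c.2 c' c'.2, hX a a.2 a' a'.2, hY _ (φ a).2 _ (φ a').2, hY _ (φ c).2 _ (φ c').2,
      sympForm_comm (φ a : Vs) c', sympForm_comm (φ c : Vs) a', hB, hB, hB, hB, hsymB a' c, hsymB a c']
    ring
  · have h1 := hg ⟨x, hx⟩ 0
    simp only [map_zero, Submodule.coe_zero, add_zero, neg_zero, zero_add] at h1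
    rw [h1]; exact (φ _).2
  · have h1 := hg 0 (φ.symm ⟨x, hx⟩)
    simp only [φ.apply_symm_apply, Submodule.coe_zero, zero_add, map_zero, add_zero] at h1
    rw [h1]; exact X.neg_mem (φ.symm _).2

end

/-- The stabiliser of a Lagrangian pair is maximal. -/
theorem isMaximalIn_pair [Finite F] (hm : 3 ≤ m) (h2 : (2 : F) ≠ 0) (D : Fin 2 → Submodule F Vs)
    (hD : Cfsg.Geo.IsMDecomposition m D)
    (hts : ∀ i, Cfsg.Geo.IsTotallySingularFor (Cfsg.sympForm m F) (D i)) :
    Cfsg.Geo.IsMaximalIn (Cfsg.spGL m F) (Cfsg.Geo.decompositionStabilizer D ⊓ Cfsg.spGL m F) := by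
  classical
  set X := D 0 with hXdef
  set Y := D 1 with hYdef
  have hX : ∀ u ∈ X, ∀ v ∈ X, f u v = 0 := fun u hu v hv => hts 0 u hu v hv
  have hY : ∀ u ∈ Y, ∀ v ∈ Y, f u v = 0 := fun u hu v hv => hts 1 u hu v hv
  have hinf : X ⊓ Y = ⊥ := disjoint_iff.mp (hD.indep.pairwiseDisjoint (by simp : (0 : Fin 2) ≠ 1))
  have hsup : X ⊔ Y = ⊤ := by
    rw [eq_top_iff, ← hD.iSup_eq_top]
    refine iSup_le fun i => ?_
    fin_cases i
    · exact le_sup_left
    · exact le_sup_right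
  have hinf' : Y ⊓ X = ⊥ := by rwa [inf_comm]
  have hsup' : Y ⊔ X = ⊤ := by rwa [sup_comm]
  have hdX : Module.finrank F X = m := hD.finrank_eq 0
  have hdY : Module.finrank F Y = m := hD.finrank_eq 1
  have hmap : ∀ (g : GL (Fin m ⊕ Fin m) F) (i j : Fin 2),
      (∀ x ∈ D i, (g : Matrix _ _ F) *ᵥ x ∈ D j) →
      (D i).map (Matrix.toLin' (g : Matrix (Fin m ⊕ Fin m) (Fin m ⊕ Fin m) F)) = D j := by
    intro g i j h
    have hinj : Function.Injective (Matrix.toLin' (g : Matrix (Fin m ⊕ Fin m) (Fin m ⊕ Fin m) F)) := by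
      intro x y hxy
      have h3 := congrArg (((g⁻¹ : GL (Fin m ⊕ Fin m) F) : Matrix (Fin m ⊕ Fin m) (Fin m ⊕ Fin m) F) *ᵥ ·) hxy
      simpa [Matrix.toLin'_apply, mulVec_mulVec] using h3
    refine Submodule.eq_of_le_of_finrank_eq ?_ ?_
    · rintro _ ⟨x, hx, rfl⟩
      rw [Matrix.toLin'_apply]; exact h x hx
    · rw [← (Submodule.equivMapOfInjective _ hinj (D i)).finrank_eq, hD.finrank_eq, hD.finrank_eq]
  have hline : ∀ (Z : Submodule F Vs) (w : Vs), Module.finrank F Z = m →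
      ∃ z ∈ Z, z ∉ Submodule.span F {w} := by
    intro Z w hZ
    by_contra hno
    push Not at hno
    have h3 := Submodule.finrank_mono (show Z ≤ Submodule.span F {w} from hno)
    have h4 := finrank_span_le_card (R := F) ({w} : Set Vs)
    simp only [Set.toFinset_singleton, Finset.card_singleton] at h4
    omega
  refine ⟨lt_of_le_of_ne inf_le_right fun e => ?_, fun H hMH hHK => ?_⟩
  · obtain ⟨x, hx, hx0⟩ := hline X 0 hdX
    have hx0' : x ∉ (⊥ : Submodule F Vs) := fun h => hx0 (by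
      rw [Submodule.mem_bot] at h; rw [h]; exact Submodule.zero_mem _)
    obtain ⟨d₁, hd₁, -, hxd⟩ := sep_dual hY hX hsup' hinf' (S := (⊥ : Submodule F Vs)) bot_le hx hx0'
    obtain ⟨d₀, hd₀, hd₀x⟩ := hline X x hdX
    obtain ⟨σ, hσ⟩ := (e.ge (T_mem (d₀ + d₁) 1)).1
    have h1 : x + (f x (d₀ + d₁)) • (d₀ + d₁) ∈ D (σ 0) := by
      rw [← hσ 0]
      exact ⟨x, hx, by rw [Matrix.toLin'_apply, T_mulVec, one_mul]⟩
    set c := f x (d₀ + d₁) with hc
    have hc0 : c ≠ 0 := by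
      rw [hc, form_add_right, hX x hx d₀ hd₀, zero_add, sympForm_comm, hxd]
      exact neg_ne_zero.mpr one_ne_zero
    have h3 : ∀ i : Fin 2, i = 0 ∨ i = 1 := by decide
    rcases h3 (σ 0) with h | h <;> rw [h] at h1
    · have h4 : c • d₁ ∈ X ⊓ Y := ⟨by
        have := X.sub_mem (X.sub_mem h1 hx) (X.smul_mem c hd₀)
        simpa [smul_add, add_sub_cancel_left] using this, Y.smul_mem c hd₁⟩
      rw [hinf, Submodule.mem_bot, smul_eq_zero] at h4
      rcases h4 with h4 | h4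
      · exact hc0 h4
      · rw [h4, zero_form] at hxd; exact zero_ne_one hxd
    · have h4 : x + c • d₀ ∈ X ⊓ Y := ⟨X.add_mem hx (X.smul_mem c hd₀), by
        have := Y.sub_mem h1 (Y.smul_mem c hd₁)
        simpa [smul_add, add_sub_assoc] using this⟩
      rw [hinf, Submodule.mem_bot] at h4
      refine hd₀x (Submodule.mem_span_singleton.mpr ⟨-c⁻¹, ?_⟩)
      rw [eq_neg_of_add_eq_zero_left h4, smul_neg, neg_smul, neg_neg, smul_smul, inv_mul_cancel₀ hc0,
        one_smul]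
  by_cases hle : H ≤ Cfsg.Geo.decompositionStabilizer D
  · exact Or.inl (le_antisymm (le_inf hle hHK) hMH)
  right
  obtain ⟨g, hgH, hg⟩ := SetLike.not_le_iff_exists.mp hle
  have hold : ∀ a ∈ X, ∀ b ∈ Y, f a b = 0 → E a b ∈ H := by
    intro a ha b hb hab
    refine hMH ⟨⟨1, fun i => hmap _ i _ fun x hx => ?_⟩, E_mem a b⟩
    rw [E_mulVec hab, Equiv.Perm.one_apply]
    fin_cases i
    · rw [hX x hx a ha, zero_smul, add_zero]; exact X.add_mem hx (X.smul_mem _ ha)
    · rw [hY x hx b hb, zero_smul, add_zero]; exact Y.add_mem hx (Y.smul_mem _ hb)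
  have hold' : ∀ a ∈ Y, ∀ b ∈ X, f a b = 0 → E a b ∈ H := fun a ha b hb hab => by
    rw [E_comm hab]; exact hold b hb a ha (form_flip hab)
  have holdP : ∀ a ∈ X, ∀ b ∈ Y, f a b = 0 → PairIn H a b := fun a ha b hb hab =>
    ⟨hab, fun c => hold _ (X.smul_mem c ha) b hb (by rw [form_smul_left, hab, mul_zero])⟩
  -- the image of some centre has two components
  obtain ⟨u₀, hu₀, u₁, hu₁, v₀, hv₀, v₁, hv₁, hu₀n, hu₁n, hP, huv⟩ :
      ∃ u₀ ∈ X, ∃ u₁ ∈ Y, ∃ v₀ ∈ X, ∃ v₁ ∈ Y, u₀ ≠ 0 ∧ u₁ ≠ 0 ∧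
        PairIn H (u₀ + u₁) (v₀ + v₁) ∧ ∀ c : F, v₀ + v₁ ≠ c • (u₀ + u₁) := by
    let gm := (g : Matrix (Fin m ⊕ Fin m) (Fin m ⊕ Fin m) F)
    have hinj : ∀ a b : Vs, gm *ᵥ a = gm *ᵥ b → a = b := fun a b h => by
      have h3 := congrArg (((g⁻¹ : GL (Fin m ⊕ Fin m) F) : Matrix (Fin m ⊕ Fin m) (Fin m ⊕ Fin m) F) *ᵥ ·) h
      simpa [gm, mulVec_mulVec] using h3
    have himg : ∃ a, (a ∈ X ∨ a ∈ Y) ∧ a ≠ 0 ∧ gm *ᵥ a ∉ X ∧ gm *ᵥ a ∉ Y := by
      by_contra hno
      push Not at hno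
      have hone : ∀ i : Fin 2, ∃ j : Fin 2, ∀ x ∈ D i, gm *ᵥ x ∈ D j := by
        intro i
        have hcl : ∀ x ∈ D i, gm *ᵥ x ∈ X ∨ gm *ᵥ x ∈ Y := by
          intro x hx
          rcases eq_or_ne x 0 with rfl | hx0
          · exact Or.inl (by rw [mulVec_zero]; exact X.zero_mem)
          by_cases h : gm *ᵥ x ∈ X
          · exact Or.inl h
          · have h3 : x ∈ X ∨ x ∈ Y := by
              fin_cases i
              · exact Or.inl hx
              · exact Or.inr hx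
            exact Or.inr (hno x h3 hx0 h)
        by_cases hall : ∀ x ∈ D i, gm *ᵥ x ∈ X
        · exact ⟨0, hall⟩
        push Not at hall
        obtain ⟨y, hy, hyX⟩ := hall
        refine ⟨1, fun x hx => ?_⟩
        rcases hcl x hx with h | h
        · rcases hcl _ ((D i).add_mem hx hy) with h' | h'
          · rw [mulVec_add] at h'
            exact absurd ((Submodule.add_mem_iff_right X h).mp h') hyX
          · rw [mulVec_add] at h'
            exact (Submodule.add_mem_iff_left Y ((hcl y hy).resolve_left hyX)).mp h'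
        · exact h
      choose σ hσ using hone
      refine hg ⟨Equiv.ofBijective σ ⟨fun i j hij => ?_, (Finite.injective_iff_surjective).mp (fun i j hij => ?_)⟩,
        fun i => hmap g i _ (hσ i)⟩
      all_goals
        by_contra hne
        have h3 := hmap g i _ (hσ i)
        rw [hij, ← hmap g j _ (hσ j)] at h3
        have hinj' : Function.Injective (Matrix.toLin' gm) := fun a b h => hinj a b (by
          simpa [Matrix.toLin'_apply] using h)
        have h4 := Submodule.map_injective_of_injective hinj' h3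
        have h5 := hD.indep.pairwiseDisjoint hne
        rw [Function.onFun, h4, disjoint_self] at h5
        have h6 := hD.finrank_eq j
        rw [h5, finrank_bot] at h6
        omega
    obtain ⟨a, haXY, ha0, haX, haY⟩ := himg
    obtain ⟨b, hab, hpair, hbind⟩ : ∃ b, f a b = 0 ∧ PairIn H a b ∧ ∀ c : F, b ≠ c • a := by
      have key : ∀ (A B : Submodule F Vs), a ∈ A → A ⊓ B = ⊥ → Module.finrank F B = m →
          (∀ b ∈ B, f a b = 0 → PairIn H a b) → ∃ b, f a b = 0 ∧ PairIn H a b ∧ ∀ c : F, b ≠ c • a := by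
        intro A B haA hAB hB hp
        let φ : B →ₗ[F] F := (sympBilin m F a).comp B.subtype
        have h1 := φ.finrank_range_add_finrank_ker
        have h3 : Module.finrank F φ.range ≤ 1 := by simpa using Submodule.finrank_le φ.range
        have hk : φ.ker ≠ ⊥ := fun e => by rw [e, finrank_bot] at h1; omega
        obtain ⟨b, hb, hb0⟩ := Submodule.exists_mem_ne_zero_of_ne_bot hk
        have hab : f a b = 0 := by simpa [φ] using hb
        refine ⟨b, hab, hp b b.2 hab, fun c hc => hb0 (Subtype.ext ?_)⟩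
        have h4 : (b : Vs) ∈ A ⊓ B := ⟨hc ▸ A.smul_mem c haA, b.2⟩
        rw [hAB, Submodule.mem_bot] at h4
        exact h4
      rcases haXY with ha | ha
      · exact key X Y ha hinf hdY fun b hb hab => holdP a ha b hb hab
      · exact key Y X ha hinf' hdX fun b hb hab => (holdP b hb a ha (form_flip hab)).symm
    have hP := hpair.map hHK hgH
    obtain ⟨u₀, hu₀, u₁, hu₁, hu⟩ := Submodule.mem_sup.mp (hsup.ge (Submodule.mem_top (x := gm *ᵥ a)))
    obtain ⟨v₀, hv₀, v₁, hv₁, hv⟩ := Submodule.mem_sup.mp (hsup.ge (Submodule.mem_top (x := gm *ᵥ b)))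
    refine ⟨u₀, hu₀, u₁, hu₁, v₀, hv₀, v₁, hv₁, fun e => ?_, fun e => ?_, by rw [hu, hv]; exact hP,
      fun c hc => hbind c (hinj _ _ ?_)⟩
    · exact haY (by rw [← hu, e, zero_add]; exact hu₁)
    · exact haX (by rw [← hu, e, add_zero]; exact hu₀)
    · rw [mulVec_smul, ← hu, ← hv, hc]
  -- a transvection in one of the subspaces
  have hroot : (∃ b ∈ Y, b ≠ 0 ∧ b ∈ root H) ∨ (∃ b ∈ X, b ≠ 0 ∧ b ∈ root H) := by
    by_cases hA : v₁ ∈ Submodule.span F {u₁}
    swap
    · exact Or.inl (exists_root hX hY hsup hinf h2 hHK (by omega) hold hu₀ hu₁ hv₀ hv₁ hP hu₁n hA)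
    by_cases hB : v₀ ∈ Submodule.span F {u₀}
    swap
    · exact Or.inr (exists_root hY hX hsup' hinf' h2 hHK (by omega) hold' hu₁ hu₀ hv₁ hv₀
        (by rw [add_comm u₁, add_comm v₁]; exact hP) hu₀n hB)
    obtain ⟨μ, rfl⟩ := Submodule.mem_span_singleton.mp hA
    obtain ⟨ν, rfl⟩ := Submodule.mem_span_singleton.mp hB
    have hne : μ ≠ ν := fun e => huv μ (by rw [e, smul_add])
    have h01 : f u₀ u₁ = 0 := by
      have h3 := hP.1
      simp only [form_add_left, form_add_right, form_smul_right, hX u₀ hu₀ u₀ hu₀, hY u₁ hu₁ u₁ hu₁,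
        sympForm_comm u₁ u₀] at h3
      have h4 : (μ - ν) * f u₀ u₁ = 0 := by linear_combination h3
      exact (mul_eq_zero.mp h4).resolve_left (sub_ne_zero.mpr hne)
    have hY0 : ∀ (A B : Submodule F Vs) (_ : ∀ u ∈ A, ∀ v ∈ A, f u v = 0) (_ : ∀ u ∈ B, ∀ v ∈ B, f u v = 0)
        (_ : A ⊔ B = ⊤) (_ : A ⊓ B = ⊥) (_ : Module.finrank F B = m)
        (_ : ∀ a ∈ A, ∀ b ∈ B, f a b = 0 → E a b ∈ H) (_ : ∀ a ∈ A, ∀ b ∈ B, f a b = 0 → PairIn H a b)
        (a₀ a₁ : Vs) (μ ν : F) (_ : a₀ ∈ A) (_ : a₁ ∈ B) (_ : a₁ ≠ 0) (_ : f a₀ a₁ = 0) (_ : μ ≠ 0)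
        (_ : PairIn H (a₀ + a₁) (ν • a₀ + μ • a₁)), ∃ b ∈ B, b ≠ 0 ∧ b ∈ root H := by
      intro A B hA' hB' hs hi hdB ho hoP a₀ a₁ μ ν ha₀ ha₁ ha₁n h01' hμ hQ
      have ha₁' : a₁ ∉ (⊥ : Submodule F Vs) := fun h => ha₁n ((Submodule.mem_bot F).mp h)
      obtain ⟨a, ha, -, haa⟩ := sep_dual hA' hB' hs hi (S := (⊥ : Submodule F Vs)) bot_le ha₁ ha₁'
      obtain ⟨b, hb, hbn, hba, hba₀⟩ : ∃ b ∈ B, b ∉ Submodule.span F {a₁} ∧ f b a = 0 ∧ f b a₀ = 0 := by
        let φ : B →ₗ[F] F × F := LinearMap.prod (((sympBilin m F).flip a).comp B.subtype)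
          (((sympBilin m F).flip a₀).comp B.subtype)
        have h1 := φ.finrank_range_add_finrank_ker
        have h3 : Module.finrank F φ.range ≤ 2 := by
          simpa using Submodule.finrank_le φ.range
        have hk : φ.ker ≠ ⊥ := fun e => by rw [e, finrank_bot] at h1; omega
        obtain ⟨z, hz, hz0⟩ := Submodule.exists_mem_ne_zero_of_ne_bot hk
        have hz' := LinearMap.mem_ker.mp hz
        simp only [φ, LinearMap.prod_apply, Function.prod_apply, Prod.mk_eq_zero] at hz'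
        have hza : f (z : Vs) a = 0 := by simpa using hz'.1
        refine ⟨z, z.2, fun h => ?_, hza, by simpa using hz'.2⟩
        obtain ⟨c, hc⟩ := Submodule.mem_span_singleton.mp h
        rw [← hc, form_smul_left, sympForm_comm a₁ a, haa] at hza
        have hc0 : c = 0 := by linear_combination -hza
        exact hz0 (Subtype.ext (by rw [← hc, hc0, zero_smul]; rfl))
      have hX' := (hoP a ha b hb (form_flip hba)).map hHK (hQ.2 1)
      have hQ1 : f ((1 : F) • (a₀ + a₁)) (ν • a₀ + μ • a₁) = 0 := by rw [one_smul]; exact hQ.1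
      have e1 : f b (a₀ + a₁) = 0 := by rw [form_add_right, hba₀, hB' b hb a₁ ha₁, add_zero]
      have e2 : f b (ν • a₀ + μ • a₁) = 0 := by
        rw [form_add_right, form_smul_right, form_smul_right, hba₀, hB' b hb a₁ ha₁, mul_zero, mul_zero,
          add_zero]
      rw [E_mulVec hQ1, E_mulVec hQ1, one_smul, e1, e2, zero_smul, zero_smul, add_zero, add_zero,
        form_add_right, hA' a ha a₀ ha₀, zero_add, haa, one_smul, form_add_right, form_smul_right,
        form_smul_right, hA' a ha a₀ ha₀, mul_zero, zero_add, haa, mul_one] at hX'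
      have e3 : a + (ν • a₀ + μ • a₁) + μ • (a₀ + a₁) = (a + ν • a₀ + μ • a₀) + (2 * μ) • a₁ := by module
      rw [e3] at hX'
      refine exists_root hA' hB' hs hi h2 hHK (by omega) ho
        (A.add_mem (A.add_mem ha (A.smul_mem _ ha₀)) (A.smul_mem _ ha₀)) (B.smul_mem _ ha₁)
        A.zero_mem hb (by rw [zero_add]; exact hX') (smul_ne_zero (mul_ne_zero h2 hμ) ha₁n) fun h => hbn ?_
      obtain ⟨c, hc⟩ := Submodule.mem_span_singleton.mp h
      exact Submodule.mem_span_singleton.mpr ⟨c * (2 * μ), by rw [← smul_smul, hc]⟩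
    rcases eq_or_ne μ 0 with rfl | hμ
    · refine Or.inr (hY0 Y X hY hX hsup' hinf' hdX hold'
        (fun a ha b hb hab => (holdP b hb a ha (form_flip hab)).symm) u₁ u₀ ν 0 hu₁ hu₀ hu₀n
        (form_flip h01) hne.symm ?_)
      rw [add_comm u₁, zero_smul, zero_add]
      rwa [zero_smul, add_zero] at hP
    · exact Or.inl (hY0 X Y hX hY hsup hinf hdY hold holdP u₀ u₁ μ ν hu₀ hu₁ hu₁n h01 hμ hP)
  obtain ⟨s, hs, hsX, hsY⟩ := exists_swap hX hY hsup hinf
  have hsH : s ∈ H := hMH ⟨⟨Equiv.swap 0 1, fun i => hmap s i _ fun x hx => by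
    fin_cases i
    · simpa using hsX x hx
    · simpa using hsY x hx⟩, hs⟩
  obtain ⟨hXr, hYr⟩ : (∀ x ∈ X, x ∈ root H) ∧ ∀ y ∈ Y, y ∈ root H := by
    have hsne : ∀ b : Vs, b ≠ 0 → (s : Matrix (Fin m ⊕ Fin m) (Fin m ⊕ Fin m) F) *ᵥ b ≠ 0 := fun b hb h => hb (by
      have h3 := congrArg (((s⁻¹ : GL (Fin m ⊕ Fin m) F) : Matrix (Fin m ⊕ Fin m) (Fin m ⊕ Fin m) F) *ᵥ ·) h
      simpa [mulVec_mulVec] using h3)
    rcases hroot with ⟨b, hb, hb0, hbr⟩ | ⟨b, hb, hb0, hbr⟩
    · have hy := fun y (hy : y ∈ Y) => root_all hX hY hsup hinf hHK hold hb hb0 hbr hy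
      exact ⟨fun x hx => root_all hY hX hsup' hinf' hHK hold' (hsY b hb) (hsne b hb0)
        (root_map hHK hsH hbr) hx, hy⟩
    · have hx := fun x (hx : x ∈ X) => root_all hY hX hsup' hinf' hHK hold' hb hb0 hbr hx
      exact ⟨hx, fun y hy => root_all hX hY hsup hinf hHK hold (hsX b hb) (hsne b hb0)
        (root_map hHK hsH hbr) hy⟩
  refine eq_spGL hHK fun v => ?_
  obtain ⟨a, ha, b, hb, rfl⟩ := Submodule.mem_sup.mp (hsup.ge (Submodule.mem_top (x := v)))
  by_cases hab : f a b = 0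
  · rcases eq_or_ne a 0 with rfl | ha0
    · rw [zero_add]; exact hYr b hb
    have ha' : a ∉ (⊥ : Submodule F Vs) := fun h => ha0 ((Submodule.mem_bot F).mp h)
    obtain ⟨b', hb', -, hb'a⟩ := sep_dual hY hX hsup' hinf' (S := (⊥ : Submodule F Vs)) bot_le ha ha'
    have hab' : f a b' = -1 := by rw [sympForm_comm, hb'a]
    have h1 := root_add hHK (hXr a ha) (hYr b' hb') (by rw [hab']; exact neg_ne_zero.mpr one_ne_zero)
    have h3 := root_add hHK h1 (hYr (b - b') (Y.sub_mem hb hb')) (by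
      rw [form_add_left, form_sub_right, hab, hab', hY b' hb' _ (Y.sub_mem hb hb')]
      simp)
    rwa [show a + b' + (b - b') = a + b by abel] at h3
  · exact root_add hHK (hXr a ha) (hYr b hb) hab

end Cfsg.Agent.Lib.SympMax
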